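import Groth.Prelude.Def_TautSec2
import Groth.Agent.S11295
import Groth.Agent.S1535
import Groth.Agent.CalgB.ProjImm
import Groth.Agent.CalgB.ProjField
import Groth.Agent.Ega1.GenPts
import Groth.Agent.CalgA.RegBasic

/-!
# The Hilbert scheme of points of a smooth projective surface is integral
-/

set_option autoImplicit false
universe u

open CategoryTheory CategoryTheory.Limits AlgebraicGeometry

namespace K805.Taut

open Groth.Agent

theorem isIntegral_hs (k : Type u) [Field k] [IsAlgClosed k] (X : Scheme.{u})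
    [X.Over (Spec (CommRingCat.of k))] [AlgebraicGeometry.IsIntegral X]
    [Smooth (X ↘ Spec (CommRingCat.of k))] [IsProper (X ↘ Spec (CommRingCat.of k))]
    (hdim : topologicalKrullDim X = 2) (Hl : X.Modules) (hHl : CohB1.IsAmple Hl)
    (Hs : Scheme.{u}) [Hs.Over (Spec (CommRingCat.of k))] [IsProper (Hs ↘ Spec (CommRingCat.of k))] (n : ℕ)
    (Z : HilbD.Obj (X ↘ Spec (CommRingCat.of k)) n (CategoryTheory.Over.mk (Hs ↘ Spec (CommRingCat.of k))))
    (hU : HilbD.IsUniversal (X ↘ Spec (CommRingCat.of k)) n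
      (CategoryTheory.Over.mk (Hs ↘ Spec (CommRingCat.of k))) Z) : IsIntegral Hs := by
  have hproj : Neron.IsProjectiveOver k (Over.mk (X ↘ Spec (CommRingCat.of k))) := by
    obtain ⟨n, i, hi, hiq⟩ := (CalgB.ProjImm.closedImmersion_iff
      (CalgB.ProjField.exists_isAmple_of_isAffine _) (X ↘ Spec (CommRingCat.of k))).2
        ⟨inferInstance, Hl, hHl⟩
    exact ⟨n, i, hi, hiq⟩
  have : ConnectedSpace (Over.mk (X ↘ Spec (CommRingCat.of k))).left :=
    inferInstanceAs (ConnectedSpace X)
  obtain ⟨h1, h2, h3⟩ := Groth.Agent.S11295.result k (Over.mk (X ↘ Spec (CommRingCat.of k))) hproj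
    (fun y => Groth.Agent.S1535.result k X y) hdim n
    (CategoryTheory.Over.mk (Hs ↘ Spec (CommRingCat.of k))) Z hU
  have : ConnectedSpace Hs := h1
  have : LocallyOfFiniteType (Hs ↘ Spec (CommRingCat.of k)) := inferInstance
  have : IsLocallyNoetherian Hs := LocallyOfFiniteType.isLocallyNoetherian (Hs ↘ Spec (CommRingCat.of k))
  refine (Ega1.GenPts.isIntegral_iff Hs).2 ⟨inferInstance, fun x => ?_⟩
  have h4 : IsRegularLocalRing (Hs.presheaf.stalk x) := h2 x
  exact CalgA.RegBasic.isDomain _

end K805.Taut
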