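import Groth.Agent.TautSh.K805.Pair2
import Groth.Agent.TautSh.K994.Kpt

/-!
# A point of the universal family over a reduced pair of points
-/

set_option autoImplicit false
universe u

open CategoryTheory CategoryTheory.Limits AlgebraicGeometry TopologicalSpace

namespace K805.Taut

open Groth.Agent Groth.Agent.Picfga.HilbPull Groth.Agent.Picfga.HilbTriple K994.Kpt

section Off

variable {X S : Scheme.{u}} (f : X ⟶ S) [IsSeparated f] {H : Over S} {Z : HilbD.Obj f 2 H}

theorem exists_offdiag (hU : HilbD.IsUniversal f 2 H Z) (x : Fin 2 → (S ⟶ X)) (hx : ∀ i, x i ≫ f = 𝟙 S)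
    (s : S) (hs : ∀ t : S, t = s) (hne : x 0 s ≠ x 1 s) :
    ∃ w : (pullback (pi f Z.1) (pi f Z.1) : Scheme.{u}), w ∉ Set.range (pullback.diagonal (pi f Z.1)) := by
  let T : Over S := T₀ S
  have hx' : ∀ i, x i ≫ f = T.hom := hx
  have hd : Disjoint (Set.range (gr f T (x 0) (hx' 0))) (Set.range (gr f T (x 1) (hx' 1))) := by
    rw [Set.disjoint_left]
    rintro _ ⟨a, rfl⟩ ⟨b, hb⟩
    apply hne
    have h1 : ∀ (i : Fin 2) (a : S), x i a = pullback.fst f T.hom (gr f T (x i) (hx' i) a) := by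
      intro i a
      rw [← Scheme.Hom.comp_apply, pullback.lift_fst]
    rw [← hs a, h1 0 a, ← hb, ← h1 1 b, hs a, hs b]
  obtain ⟨e, he⟩ := isFinLocFreeOfDeg_graphs f T x hx' hd
  have hdeg : Mor2.IsFinLocFreeOfDeg 2 ((TautSh.graphsIdeal f 2 T x hx').subschemeι ≫ PicF.XTproj f T) := by
    have h1 : (TautSh.graphsIdeal f 2 T x hx').subschemeι ≫ PicF.XTproj f T = e.inv ≫ coprod.desc (𝟙 T.left) (𝟙 T.left) := by
      rw [Iso.eq_inv_comp, ← Category.assoc, he]
      apply coprod.hom_ext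
      · rw [coprod.inl_desc_assoc, gr_snd, coprod.inl_desc]
      · rw [coprod.inr_desc_assoc, gr_snd, coprod.inr_desc]
    rw [h1]
    exact isFinLocFreeOfDeg_comp_iso
      (K842.CoprodRank.isFinLocFreeOfDeg_coprodDesc _ _ rfl (isFinLocFreeOfDeg_id _) (isFinLocFreeOfDeg_id _))
  obtain ⟨g, hg, -⟩ := hU T ⟨_, hdeg⟩
  obtain ⟨m, hm, hmq⟩ := exists_isPullback_of_pull_eq f g Z.1 _ hg
  let c : Fin 2 → (T.left ⟶ (T.left ⨿ T.left : Scheme.{u})) := ![coprod.inl, coprod.inr]
  let z : Fin 2 → (T.left ⟶ Z.1.subscheme) := fun i => c i ≫ e.hom ≫ m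
  have hc : ∀ i, c i ≫ coprod.desc (gr f T (x 0) (hx' 0)) (gr f T (x 1) (hx' 1)) = gr f T (x i) (hx' i) := by
    intro i
    fin_cases i
    · exact coprod.inl_desc _ _
    · exact coprod.inr_desc _ _
  have hzq : ∀ i, z i ≫ qq f Z.1 = x i := by
    intro i
    change (c i ≫ e.hom ≫ m) ≫ qq f Z.1 = _
    rw [Category.assoc, Category.assoc, hmq]
    change c i ≫ e.hom ≫ (TautSh.graphsIdeal f 2 T x hx').subschemeι ≫ pullback.fst f T.hom = _
    rw [reassoc_of% he, reassoc_of% (hc i), pullback.lift_fst]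
  have hzp : ∀ i, z i ≫ pi f Z.1 = g.left := by
    intro i
    change (c i ≫ e.hom ≫ m) ≫ pi f Z.1 = _
    rw [Category.assoc, Category.assoc, hm.w]
    change c i ≫ e.hom ≫ ((TautSh.graphsIdeal f 2 T x hx').subschemeι ≫ PicF.XTproj f T) ≫ g.left = _
    rw [Category.assoc, reassoc_of% he, reassoc_of% (hc i), ← Category.assoc, gr_snd, Category.id_comp]
  refine ⟨pullback.lift (z 0) (z 1) ((hzp 0).trans (hzp 1).symm) s, ?_⟩
  rintro ⟨v, hv⟩
  apply hne
  have h1 : z 0 s = z 1 s := by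
    have h2 : pullback.fst (pi f Z.1) (pi f Z.1) (pullback.diagonal (pi f Z.1) v) =
        pullback.snd (pi f Z.1) (pi f Z.1) (pullback.diagonal (pi f Z.1) v) := by
      rw [← Scheme.Hom.comp_apply, ← Scheme.Hom.comp_apply, pullback.diagonal_fst, pullback.diagonal_snd]
    rw [hv, ← Scheme.Hom.comp_apply, ← Scheme.Hom.comp_apply, pullback.lift_fst, pullback.lift_snd] at h2
    exact h2
  rw [← hzq 0, ← hzq 1]
  exact (Scheme.Hom.comp_apply (z 0) (qq f Z.1) s).trans ((congrArg (qq f Z.1) h1).trans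
    (Scheme.Hom.comp_apply (z 1) (qq f Z.1) s).symm)

/-- Two distinct closed points give a point of the fibre square of the universal family off the diagonal. -/
theorem exists_offdiag_of_points {k : Type u} [Field k] [IsAlgClosed k] {X : Scheme.{u}}
    (f : X ⟶ Spec (CommRingCat.of k)) [IsSeparated f] [LocallyOfFiniteType f] [IrreducibleSpace X] [Nontrivial X]
    {H : Over (Spec (CommRingCat.of k))} {Z : HilbD.Obj f 2 H} (hU : HilbD.IsUniversal f 2 H Z) :
    ∃ w : (pullback (pi f Z.1) (pi f Z.1) : Scheme.{u}), w ∉ Set.range (pullback.diagonal (pi f Z.1)) := by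
  obtain ⟨x, hx, -⟩ := K994.Fin3.exists_closed_point f ∅ Set.finite_empty
  obtain ⟨y, hy, hxy⟩ := K994.Fin3.exists_closed_point f {x} (Set.finite_singleton x)
  refine exists_offdiag f hU ![pointOfClosedPoint f x hx, pointOfClosedPoint f y hy] (fun i => ?_)
    (IsLocalRing.closedPoint k) (fun t => Subsingleton.elim _ _) ?_
  · fin_cases i
    · exact pointOfClosedPoint_comp f x hx
    · exact pointOfClosedPoint_comp f y hy
  · change pointOfClosedPoint f x hx (IsLocalRing.closedPoint k) ≠ pointOfClosedPoint f y hy (IsLocalRing.closedPoint k)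
    rw [pointOfClosedPoint_apply, pointOfClosedPoint_apply]
    exact fun h => hxy h.symm

end Off

end K805.Taut
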