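import Groth.Agent.TautSh.K805.Pair2
import Groth.Agent.S2324

/-!
# The supports of the points in a fibre of the Hilbert–Chow morphism
-/

set_option autoImplicit false
universe u

open CategoryTheory CategoryTheory.Limits AlgebraicGeometry TopologicalSpace

namespace K805.Taut

open Groth.Agent Groth.Agent.Picfga.HilbPull Groth.Agent.Picfga.HilbTriple

/-- The supports of all points in a fibre of the Hilbert–Chow morphism lie in one affine open subset. -/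
theorem exists_affine_supp {X S : Scheme.{u}} (f : X ⟶ S) [IsSeparated f] {H : Over S} [AlgebraicGeometry.IsIntegral H.left]
    (Z : HilbD.Obj f 2 H) {Y : Scheme.{u}} (q : SymProd.fibPow f 2 ⟶ Y) (gY : Y ⟶ S) [IsSeparated gY] [IsFinite q]
    (ρ : H.left ⟶ Y) (hρ : TautSh.IsHilbChow f 2 H Z.1 q gY ρ) (hq : q ≫ gY = WidePullback.base _)
    (w : (pullback (pi f Z.1) (pi f Z.1) : Scheme.{u})) (hw : w ∉ Set.range (pullback.diagonal (pi f Z.1)))
    [CompactSpace X] [X.IsSeparated] {L : X.Modules} (hL : CohB1.IsAmple L) (y : Y) :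
    ∃ U : X.Opens, IsAffineOpen U ∧ ∀ ζ : Z.1.subscheme, ρ (pi f Z.1 ζ) = y → qq f Z.1 ζ ∈ U := by
  have hfin : IsFinite (pi f Z.1) := Z.2.1.1
  have hflat : Flat (pi f Z.1) := Z.2.1.2.1
  have hlfp : LocallyOfFinitePresentation (pi f Z.1) := Z.2.1.2.2
  obtain ⟨Γ', z₀, z₁, hΓ, hg, hgs, hz, hne⟩ := exists_integral_pair (pi f Z.1) w hw
  let z : Fin 2 → (Γ' ⟶ Z.1.subscheme) := ![z₀, z₁]
  have hzi : ∀ i, z i ≫ pi f Z.1 = z₀ ≫ pi f Z.1 := by
    intro i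
    fin_cases i
    · rfl
    · exact hz.symm
  have hx : ∀ i, (z i ≫ qq f Z.1) ≫ f = (z₀ ≫ qq f Z.1) ≫ f := by
    have h1 : ∀ v : Γ' ⟶ Z.1.subscheme, (v ≫ qq f Z.1) ≫ f = (v ≫ pi f Z.1) ≫ H.hom := fun v =>
      (Category.assoc _ _ _).trans ((congrArg (fun u => v ≫ u) (qq_comp f Z.1)).trans (Category.assoc _ _ _).symm)
    intro i
    rw [h1, h1, hzi i]
  have hc := chow_comp f Z q gY ρ hρ hq z hz hne ((z₀ ≫ qq f Z.1) ≫ f) hx
  let P : Set X := ⋃ i : Fin 2, (WidePullback.π (fun _ : Fin 2 => f) i) '' (q ⁻¹' {y})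
  have hP : P.Finite := Set.finite_iUnion fun i => (q.finite_preimage_singleton y).image _
  obtain ⟨n, s, hs, -, hV⟩ := Groth.Agent.S2324.result X L hL P hP ⊤ (Set.subset_univ _)
  refine ⟨_, hV, fun ζ hζ => hs ?_⟩
  obtain ⟨γ, hγ⟩ := hgs.surj (pi f Z.1 ζ)
  obtain ⟨i, hi⟩ := eq_or_eq (pi f Z.1) Z.2 (z₀ ≫ pi f Z.1) z hzi hne γ ζ hγ.symm
  refine Set.mem_iUnion.2 ⟨i, WidePullback.lift ((z₀ ≫ qq f Z.1) ≫ f) (fun i : Fin 2 => z i ≫ qq f Z.1) hx γ, ?_, ?_⟩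
  · change q _ = y
    rw [← Scheme.Hom.comp_apply, ← hc, Scheme.Hom.comp_apply, ← hζ, ← hγ]
    rfl
  · rw [← Scheme.Hom.comp_apply, WidePullback.lift_π, Scheme.Hom.comp_apply, hi]

end K805.Taut
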