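import Groth.Agent.TautSh.K805.Fibre
import Groth.Agent.TautSh.K805.Pair3
import Groth.Agent.TautSh.K805.Supp
import Groth.Agent.TautSh.K805.HsInt
import Groth.Agent.TautSh.K994.DblDual
import Groth.Agent.TautSh.K639.SymFacts
import Groth.Agent.S1495
import Groth.Agent.S2331
import Groth.Agent.S4381
import Groth.Agent.S4380

/-!
# Ampleness of `(ρ^* M)^N ⊗ D'` on the Hilbert scheme of two points
-/

set_option autoImplicit false
universe u

open CategoryTheory CategoryTheory.Limits AlgebraicGeometry TopologicalSpace Module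

namespace K805.Taut

open Groth.Agent Groth.Agent.Fdesc.LocGen K994 K994.DblMap K994.Kpt K994.Fin
open Groth.Agent.PerfB.PushFLF (algPre pushO pushOEquiv)
open Groth.Agent.Picfga.HilbPull Groth.Agent.Picfga.HilbTriple

section

variable {k : Type u} [Field k] [IsAlgClosed k] {X : Scheme.{u}} {f : X ⟶ Spec (CommRingCat.of k)} [IsSeparated f]
  [LocallyOfFiniteType f] [IsIntegral X] [Nontrivial X] [CompactSpace X] [X.IsSeparated]
  {H : Over (Spec (CommRingCat.of k))} [IsProper H.hom] [IsIntegral H.left] {Z : HilbD.Obj f 2 H}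

/-- The determinant of the tautological bundle is ample relative to the Hilbert–Chow morphism. -/
theorem isRelAmple (hZ : HilbD.IsUniversal f 2 H Z) {Y : Scheme.{u}} (q : SymProd.fibPow f 2 ⟶ Y)
    (gY : Y ⟶ Spec (CommRingCat.of k)) [IsProper gY] [IsFinite q]
    (ρ : H.left ⟶ Y) (hρ : TautSh.IsHilbChow f 2 H Z.1 q gY ρ) (hq : q ≫ gY = WidePullback.base _)
    {L : X.Modules} (hL : CohB1.IsAmple L) {Λ : H.left.Modules}
    (hΛ : ExtPow.IsExtPow 2 (TautSh.taut f H Z.1 (Coh.structureModule X)) Λ) :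
    PicF.IsInvertible Λ ∧ RelAmple.IsRelAmple ρ Λ := by
  obtain ⟨haff, hrk⟩ := (Groth.Agent.S19692.result (pi f Z.1) 2).1 Z.2
  have hp1 : Mor2.IsFinLocFree (pi f Z.1) := Z.2.1
  have : IsFinite (pi f Z.1) := hp1.1
  have : Flat (pi f Z.1) := hp1.2.1
  have : LocallyOfFinitePresentation (pi f Z.1) := hp1.2.2
  have hΛ' : ExtPow.IsExtPow 2 (pushO (pi f Z.1)) Λ :=
    K994.DblDual.isExtPow_of_iso_left ((Scheme.Modules.pushforward (pi f Z.1)).mapIso
      (Fga.UnitRestrict.pullbackUnitIso (qq f Z.1))) hΛ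
  have hΛinv : FlatMod.IsFinLocFreeOfRank 1 Λ := by
    rw [Krr.H495.Rank.isFinLocFreeOfRank_iff]
    have hE' := Krr.H495.Rank.isFinLocFree_of_rank hrk
    refine ⟨Sga67.LocBasis.isFinLocFree_of_isExtPow hE' hΛ', fun x => ?_⟩
    rw [Krr.H495.Rank.rk_extPow hE' hΛ', Krr.H495.Rank.rk_of_rank hrk, Nat.choose_self]
  have hinv : PicF.IsInvertible Λ := Ega2.QCohLocal.isFinLocFreeOfRank_one_iff.1 hΛinv
  refine ⟨hinv, ?_⟩
  obtain ⟨φ, hφ⟩ := Sga67.ExtSheaf.exists_phi hΛ'
  obtain ⟨w, hw⟩ := exists_w φ hφ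
  obtain ⟨w₀, hw₀⟩ := exists_offdiag_of_points f hZ
  have hρp : IsProper ρ := by
    have : IsProper (ρ ≫ gY) := by
      rw [hρ.1]
      infer_instance
    exact IsProper.of_comp ρ gY
  have hloc : ∀ y : {y : Y // IsClosed ({y} : Set Y)}, ∃ V : Y.Opens, y.1 ∈ V ∧
      RelAmple.IsRelAmple (ρ ∣_ V) (Λ.restrict (ρ ⁻¹ᵁ V).ι) := by
    rintro ⟨y, hy⟩
    refine Groth.Agent.S1495.result ρ Λ hinv y ?_
    obtain ⟨U, hU, hUy⟩ := exists_affine_supp f Z q gY ρ hρ hq w₀ hw₀ hL y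
    have hci : IsClosedImmersion (ρ.fiberι y) := by
      have : IsClosedImmersion (Y.fromSpecResidueField y) := (isClosed_singleton_iff_isClosedImmersion).1 hy
      exact inferInstanceAs (IsClosedImmersion (pullback.fst _ _))
    have hpr : IsProper (ρ.fiberToSpecResidueField y) := inferInstanceAs (IsProper (pullback.snd _ _))
    refine isAmple_of_opU hZ hU hinv φ w hw hrk (ρ.fiberι y) (K := Y.residueField y) (ρ.fiberToSpecResidueField y) ?_
    intro c
    rw [mem_opU]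
    intro ζ hζ
    apply hUy
    rw [hζ]
    have h1 : ρ.fiberι y c ∈ ρ ⁻¹' {y} := by
      rw [← Scheme.Hom.range_fiberι]
      exact ⟨c, rfl⟩
    exact h1
  choose V hyV hV using hloc
  refine (Groth.Agent.S4380.result ρ Λ V ?_).2 hV
  have hcY : CompactSpace Y := QuasiCompact.compactSpace_of_compactSpace gY
  rw [eq_top_iff]
  intro y _
  obtain ⟨x, hx, hc⟩ := (isClosed_closure (s := ({y} : Set Y))).exists_closed_singleton ⟨y, subset_closure rfl⟩
  have h1 : x ∈ ⨆ i, V i := Opens.mem_iSup.2 ⟨⟨x, hc⟩, hyV ⟨x, hc⟩⟩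
  exact (specializes_iff_mem_closure.mpr hx).mem_open (⨆ i, V i).2 h1

end

end K805.Taut
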