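import Groth.Agent.TautSh.K805.Local4
import Groth.Agent.Variety.K432.AmpCurve
import Groth.Agent.VarietyB.GlobGen

/-!
# Ampleness of the determinant on the fibres of the Hilbert–Chow morphism
-/

set_option autoImplicit false
universe u

open CategoryTheory CategoryTheory.Limits AlgebraicGeometry TopologicalSpace Module

namespace K805.Taut

open Groth.Agent Groth.Agent.Fdesc.LocGen K994 K994.DblMap K994.Kpt K994.Fin
open Groth.Agent.PerfB.PushFLF (algPre pushO pushOEquiv)
open Groth.Agent.Picfga.HilbPull Groth.Agent.Picfga.HilbTriple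

theorem mem_genLocus_of_trivial {C : Scheme.{u}} (hC : IsField Γ(C, ⊤)) {N : C.Modules}
    (e : N ≅ Coh.structureModule C) (s : Coh.structureModule C ⟶ N) {c₀ c₁ : C} (h₀ : c₀ ∈ CohB1.genLocus N s) :
    c₁ ∈ CohB1.genLocus N s := by
  have hg : IsGen (e.inv.app ⊤ (one ⊤)) := (isGen_one (⊤ : C.Opens)).app e.inv
  obtain ⟨r, hr⟩ := hg.exists_eq (sec s ⊤)
  have h1 := genLocus_inf_eq s hg hr
  rw [inf_top_eq] at h1
  rw [h1] at h₀ ⊢
  have hne : r ≠ 0 := by
    rintro rfl
    rw [Scheme.basicOpen_zero] at h₀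
    exact h₀
  obtain ⟨r', hr'⟩ := hC.mul_inv_cancel hne
  rw [Scheme.basicOpen_of_isUnit _ (IsUnit.of_mul_eq_one _ hr')]
  trivial

theorem isGloballyGenerated_of_closed {X : Scheme.{u}} [CompactSpace X] {N : X.Modules}
    (h : ∀ x : X, IsClosed ({x} : Set X) → ∃ σ : Coh.structureModule X ⟶ N, x ∈ CohB1.genLocus N σ) :
    Curv2.IsGloballyGenerated N := by
  refine VarietyB.GlobGen.isGloballyGenerated_of_cover (κ := Coh.structureModule X ⟶ N) (fun s => s) fun y => ?_
  obtain ⟨x, hx, hc⟩ := (isClosed_closure (s := ({y} : Set X))).exists_closed_singleton ⟨y, subset_closure rfl⟩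
  obtain ⟨σ, hσ⟩ := h x hc
  exact ⟨σ, (specializes_iff_mem_closure.mpr hx).mem_open (CohB1.genLocus N σ).2 hσ⟩

theorem nontrivial_of_dim {Y : Type u} [TopologicalSpace Y] (h : topologicalKrullDim Y = 1) : Nontrivial Y := by
  by_contra hcon
  rw [not_nontrivial_iff_subsingleton] at hcon
  have h2 := topologicalKrullDim_zero_of_discreteTopology Y
  rw [h] at h2
  exact absurd h2 (by norm_num)

section Fibre

variable {k : Type u} [Field k] [IsAlgClosed k] {X : Scheme.{u}} {f : X ⟶ Spec (CommRingCat.of k)}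
  {H : Over (Spec (CommRingCat.of k))} [IsSeparated H.hom] [LocallyOfFiniteType H.hom] {Z : HilbD.Obj f 2 H}

/-- The `k`-point at a closed point. -/
noncomputable def kp (x : H.left) (hx : IsClosed ({x} : Set H.left)) : T₀ (Spec (CommRingCat.of k)) ⟶ H :=
  Over.homMk (pointOfClosedPoint H.hom x hx) (pointOfClosedPoint_comp H.hom x hx)

theorem kp_apply (x : H.left) (hx : IsClosed ({x} : Set H.left)) (t : Spec (CommRingCat.of k)) :
    (kp x hx).left t = x := pointOfClosedPoint_apply H.hom x hx t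

theorem isClosed_singleton_map {F G : Scheme.{u}} (i : F ⟶ G) [IsClosedImmersion i] {c : F}
    (hc : IsClosed ({c} : Set F)) : IsClosed ({i c} : Set G) := by
  rw [← Set.image_singleton]
  exact i.isClosedEmbedding.isClosedMap _ hc

theorem isAmple_of_opU (hZ : HilbD.IsUniversal f 2 H Z) {U : X.Opens} (hU : IsAffineOpen U)
    {Λ : H.left.Modules} (hΛ : PicF.IsInvertible Λ)
    (φ : Sga67.ExtSheaf.Phi 2 (pushO (pi f Z.1)) Λ) (w : pushO (pi f Z.1) ⟶ Λ)
    (hw : ∀ (U : H.left.affineOpens) (x : Γ(pushO (pi f Z.1), U.1)),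
      w.app U.1 x = tauP (φ U) (pushOEquiv (pi f Z.1) U.1 1) x)
    (hp : FlatMod.IsFinLocFreeOfRank 2 (pushO (pi f Z.1))) {F : Scheme.{u}} (i : F ⟶ H.left) [IsClosedImmersion i]
    {K : Type u} [Field K] (q : F ⟶ Spec (CommRingCat.of K)) [IsProper q] (hi : ∀ c, i c ∈ opU f Z U) :
    CohB1.IsAmple ((Scheme.Modules.pullback i).obj Λ) := by
  have hcF : CompactSpace F := QuasiCompact.compactSpace_of_compactSpace q
  let t : Spec (CommRingCat.of k) := IsLocalRing.closedPoint k
  refine K432.AmpCurve.isAmple_of_gg q (isInvertible_pullback i hΛ) ?_ ?_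
  · refine isGloballyGenerated_of_closed fun c hc => ?_
    have hc' := isClosed_singleton_map i hc
    have ha : (kp (k := k) (i c) hc').left t ∈ opU f Z U := by
      rw [kp_apply]
      exact hi c
    obtain ⟨g, hg⟩ := exists_not_mem_range hU (kp (i c) hc') t ha
    exact ⟨_, (mem_genLocus_iff' f Z U hΛ φ w hw hp i hi g c (kp (i c) hc') t (kp_apply _ _ _) ha).2 hg⟩
  · intro C hC hdim ⟨e⟩
    have e' : (Scheme.Modules.pullback (C.subschemeι ≫ i)).obj Λ ≅ Coh.structureModule C.subscheme :=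
      ((Scheme.Modules.pullbackComp C.subschemeι i).app Λ).symm ≪≫ e
    have hj : ∀ c, (C.subschemeι ≫ i) c ∈ opU f Z U := fun c => hi _
    have hpr : IsProper (C.subschemeι ≫ q) := inferInstance
    have hfield : IsField Γ(C.subscheme, ⊤) := isField_of_universallyClosed K (C.subschemeι ≫ q)
    have hnt : Nontrivial C.subscheme := nontrivial_of_dim (by
      rw [K432.NefBasic.topologicalKrullDim_subscheme, hdim])
    obtain ⟨c₀, hc₀, -⟩ := K994.Fin3.exists_closed_point (C.subschemeι ≫ q) ∅ Set.finite_empty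
    obtain ⟨c₁, hc₁, hne⟩ := K994.Fin3.exists_closed_point (C.subschemeι ≫ q) {c₀} (Set.finite_singleton c₀)
    have h₀ := isClosed_singleton_map (C.subschemeι ≫ i) hc₀
    have h₁ := isClosed_singleton_map (C.subschemeι ≫ i) hc₁
    have ha : (kp (k := k) ((C.subschemeι ≫ i) c₀) h₀).left t ∈ opU f Z U := by
      rw [kp_apply]
      exact hj c₀
    have hb : (kp (k := k) ((C.subschemeι ≫ i) c₁) h₁).left t ∈ opU f Z U := by
      rw [kp_apply]
      exact hj c₁
    have key := eq_of_range hU hZ _ _ t ha hb (by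
      intro g
      have e1 := mem_genLocus_iff' f Z U hΛ φ w hw hp (C.subschemeι ≫ i) hj g c₀ _ t (kp_apply _ _ _) ha
      have e2 := mem_genLocus_iff' f Z U hΛ φ w hw hp (C.subschemeι ≫ i) hj g c₁ _ t (kp_apply _ _ _) hb
      rw [← not_iff_not, ← e1, ← e2]
      exact ⟨mem_genLocus_of_trivial hfield e' _, mem_genLocus_of_trivial hfield e' _⟩)
    have h3 : (C.subschemeι ≫ i) c₀ = (C.subschemeι ≫ i) c₁ := by
      rw [← kp_apply (k := k) _ h₀ t, ← kp_apply (k := k) _ h₁ t, key]
    exact hne ((C.subschemeι ≫ i).isClosedEmbedding.injective h3).symm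

end Fibre

end K805.Taut
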