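import Groth.Agent.VarietyA.InvDescend
import Groth.Agent.Curves.K335.FreeNhd
import Groth.Agent.Ega2.BasSec
import Groth.Agent.CohqA.AffPush
import Groth.Prelude.Def_TautSec2
import Groth.Prelude.Def_HilbD

/-!
# The rank of the tautological bundle of an invertible module

* `isFinLocFreeOfRank_push`: `p_* N` has rank `d` for `p` finite locally free of degree `d` and `N` invertible.
* `rank_taut`: `F^[n]` has rank `n` for `F` invertible.
-/

set_option autoImplicit false
universe u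
open CategoryTheory CategoryTheory.Limits AlgebraicGeometry Opposite TopologicalSpace

namespace K805.TautRank

open Groth.Agent Groth.Agent.Fdesc Groth.Agent.Fdesc.LocGen

/-- The direct image of an invertible module is locally free. -/
theorem isFinLocFreeOfRank_push {X Y : Scheme.{u}} (h : X ⟶ Y) [IsFinite h] [Flat h] [LocallyOfFinitePresentation h]
    {N : X.Modules} (hN : PicF.IsInvertible N) (d : ℕ) (hd : ∀ y, h.finrank y = d) :
    FlatMod.IsFinLocFreeOfRank d ((Scheme.Modules.pushforward h).obj N) := by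
  refine (Ega2.BasSec.isFinLocFreeOfRank_iff _ d).2 fun y => ?_
  obtain ⟨V', g, hyV', hg⟩ := VarietyA.InvDescend.exists_gen_preimage h hN y
  obtain ⟨V, hVV', hyV, hV, hfree, hfin⟩ := K335.FreeNhd.exists_free_nhd h V' y hyV'
  let _ : Algebra Γ(Y, V) Γ(X, h ⁻¹ᵁ V) := (h.app V).hom.toAlgebra
  have hnt : Nontrivial Γ(Y, V) :=
    (Y.presheaf.germ V y hyV).hom.domain_nontrivial
  have hq : Coh.IsQCoh ((Scheme.Modules.pushforward h).obj N) :=
    CohqA.AffPush.isQCoh_push h _ (Ega2.QCohLocal.isQCoh_of_isInvertible hN)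
  have hVV'' : h ⁻¹ᵁ V ≤ h ⁻¹ᵁ V' := h.preimage_mono hVV'
  have hg' : IsGen (res N hVV'' g) := hg.res hVV''
  let e₀ : Γ(X, h ⁻¹ᵁ V) →ₗ[Γ(Y, V)] Γ((Scheme.Modules.pushforward h).obj N, V) :=
    { toFun := fun a => (show Γ(N, h ⁻¹ᵁ V) from a • res N hVV'' g)
      map_add' := fun a b => add_smul a b (res N hVV'' g)
      map_smul' := fun r a => mul_smul (h.app V r) a (res N hVV'' g) }
  let e : Γ(X, h ⁻¹ᵁ V) ≃ₗ[Γ(Y, V)] Γ((Scheme.Modules.pushforward h).obj N, V) :=
    LinearEquiv.ofBijective e₀ hg'.bijective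
  have hfr : Module.finrank Γ(Y, V) Γ(X, h ⁻¹ᵁ V) = d := by
    rw [K335.FreeNhd.finrank_eq h hV ⟨y, hyV⟩ hfree]
    exact hd y
  let b : Module.Basis (Fin d) Γ(Y, V) Γ(X, h ⁻¹ᵁ V) := Module.finBasisOfFinrankEq _ _ hfr
  exact ⟨V, ⇑(b.map e), hyV, Ega2.BasSec.isBas_of_bijective hq hV
    ((Ega2.BasSec.comb_bijective_iff _).mpr ⟨b.map e, rfl⟩)⟩

/-- `F^[n]` has rank `n` for `F` invertible. -/
theorem rank_taut {X S : Scheme.{u}} (f : X ⟶ S) (n : ℕ) (H : Over S) (Z : HilbD.Obj f n H) {F : X.Modules}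
    (hF : PicF.IsInvertible F) : FlatMod.IsFinLocFreeOfRank n (TautSh.taut f H Z.1 F) := by
  have hp : Mor2.IsFinLocFreeOfDeg n (Z.1.subschemeι ≫ PicF.XTproj f H) := Z.2
  have h1 : IsFinite (TautSh.famToH f H Z.1) := hp.1.1
  have h2 : Flat (TautSh.famToH f H Z.1) := hp.1.2.1
  have h3 : LocallyOfFinitePresentation (TautSh.famToH f H Z.1) := hp.1.2.2
  refine isFinLocFreeOfRank_push (TautSh.famToH f H Z.1) ?_ n fun y => hp.2 y
  exact isInvertible_pullback _ hF

end K805.TautRank
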