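import Groth.Agent.TautSh.K805.Rank2
import Groth.Agent.TautSh.K805.TautRank
import Groth.Agent.TautSh.K888.HilbReg

/-!
# S19719 from S19725

`main`: stability of `F^[2]`, `F` invertible, from the test on invertible submodules.
-/

set_option autoImplicit false
universe u
open CategoryTheory CategoryTheory.Limits AlgebraicGeometry

namespace K805.FromLine

theorem main (k : Type u) [Field k] [IsAlgClosed k] [CharZero k] (X : Scheme.{u}) [X.Over (Spec (CommRingCat.of k))]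
    [AlgebraicGeometry.IsIntegral X] [Smooth (X ↘ Spec (CommRingCat.of k))] [IsProper (X ↘ Spec (CommRingCat.of k))]
    (hdim : topologicalKrullDim X = 2) (Hl : X.Modules) (hHl : CohB1.IsAmple Hl) (F : X.Modules)
    (hF : PicF.IsInvertible F) (Hs : Scheme.{u}) [Hs.Over (Spec (CommRingCat.of k))]
    [IsProper (Hs ↘ Spec (CommRingCat.of k))]
    (Z : HilbD.Obj (X ↘ Spec (CommRingCat.of k)) 2 (CategoryTheory.Over.mk (Hs ↘ Spec (CommRingCat.of k))))
    (hU : HilbD.IsUniversal (X ↘ Spec (CommRingCat.of k)) 2 (CategoryTheory.Over.mk (Hs ↘ Spec (CommRingCat.of k))) Z)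
    (A : ℕ → Hs.Modules)
    (h25 : ShStab.IsMuStable k X Hl F 2 → ∃ N0 : ℕ, ∀ N : ℕ, N0 ≤ N → CohB1.IsAmple (A N) →
      StabCat.IsMuSt (fun G : Hs.Modules => PicF.IsInvertible G) (ShStab.IsHilbPoly k Hs (A N)) 4
        (TautSh.taut (X ↘ Spec (CommRingCat.of k)) (CategoryTheory.Over.mk (Hs ↘ Spec (CommRingCat.of k))) Z.1 F)) :
    ∃ N0 : ℕ, ∀ N : ℕ, N0 ≤ N → CohB1.IsAmple (A N) →
      ShStab.IsMuStable k Hs (A N)
        (TautSh.taut (X ↘ Spec (CommRingCat.of k)) (CategoryTheory.Over.mk (Hs ↘ Spec (CommRingCat.of k))) Z.1 F) 4 := by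
  obtain ⟨hint, hd4, hreg⟩ := K888.HilbReg.regular k X hdim Hl hHl Hs Z hU
  obtain ⟨N0, h⟩ := h25 (Rk2.isMuStable_of_isInvertible k hHl (by rw [hdim]; rfl) hF)
  have hrk := TautRank.rank_taut (X ↘ Spec (CommRingCat.of k)) 2
    (CategoryTheory.Over.mk (Hs ↘ Spec (CommRingCat.of k))) Z hF
  refine ⟨N0, fun N hN hA => ?_⟩
  exact Rk2.isMuStable_of_isMuSt_inv (X := Hs) (L := A N) (n := 4) k hA (by rw [hd4]; rfl) hreg
    (fun x => by
      obtain ⟨U, hx, e⟩ := hrk x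
      exact ⟨U, 2, hx, e⟩) (Rk2.rk_of_rank (X := Hs) hrk) (h N hN hA)

end K805.FromLine
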