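import Groth.Agent.TautSh.K994.Kpt

import Groth.Agent.Fdesc.LocGenPullback

/-!
# The exterior square of a double covering near a point
-/

set_option autoImplicit false
universe u

open CategoryTheory CategoryTheory.Limits AlgebraicGeometry TopologicalSpace

namespace K805.Taut

open Groth.Agent Groth.Agent.Fdesc.LocGen

section Alg

/-- Two surjections onto algebras of dimension at least two have the same kernel if they have the same preimage of the
scalars. -/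
theorem ker_le_of_range {k R E₀ E₁ : Type*} [Field k] [CommRing R] [CommRing E₀] [CommRing E₁] (s₀ : k →+* E₀)
    (s₁ : k →+* E₁) (h₁ : ¬ Function.Surjective s₁) (e₀ : R →+* E₀) (e₁ : R →+* E₁) (hs : Function.Surjective e₁)
    (h : ∀ f, e₀ f ∈ Set.range s₀ → e₁ f ∈ Set.range s₁) : RingHom.ker e₀ ≤ RingHom.ker e₁ := by
  intro f hf
  rw [RingHom.mem_ker] at hf ⊢
  by_contra hne
  have key : ∀ g, e₁ (g * f) ∈ Set.range s₁ := fun g => h _ ⟨0, by rw [map_zero, map_mul, hf, mul_zero]⟩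
  obtain ⟨c, hc⟩ := key 1
  rw [one_mul] at hc
  have hc0 : c ≠ 0 := by
    rintro rfl
    exact hne (by rw [← hc, map_zero])
  apply h₁
  intro e
  obtain ⟨g, rfl⟩ := hs e
  obtain ⟨d, hd⟩ := key g
  refine ⟨d * c⁻¹, ?_⟩
  rw [map_mul, hd, map_mul, ← hc, mul_assoc, ← map_mul, mul_inv_cancel₀ hc0, map_one, mul_one]

end Alg

section Pt

variable {k : Type u} [Field k]

open K994.Fin

theorem not_surjective_str {W : Scheme.{u}} (w : W ⟶ Spec (CommRingCat.of k)) (h : dm w = 2) :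
    ¬ Function.Surjective (str w) := by
  intro hs
  let := (str w).toAlgebra
  have h1 : Module.finrank k Γ(W, ⊤) ≤ 1 := finrank_le_one (1 : Γ(W, ⊤)) (fun v => by
    obtain ⟨c, hc⟩ := hs v
    exact ⟨c, by rw [Algebra.smul_def, mul_one]; exact hc⟩)
  have h2 : Module.finrank k Γ(W, ⊤) = 2 := h
  omega

/-- The value of a function at a `k`-point. -/
noncomputable def vl {H : Scheme.{u}} (a : Spec (CommRingCat.of k) ⟶ H) {V : H.Opens} (haV : ⊤ ≤ a ⁻¹ᵁ V) :
    Γ(H, V) →+* k :=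
  (Scheme.ΓSpecIso (CommRingCat.of k)).hom.hom.comp (a.appLE V ⊤ haV).hom

theorem mem_basicOpen_iff {H : Scheme.{u}} (a : Spec (CommRingCat.of k) ⟶ H) {V : H.Opens} (haV : ⊤ ≤ a ⁻¹ᵁ V)
    (y : Γ(H, V)) (t : Spec (CommRingCat.of k)) : a t ∈ H.basicOpen y ↔ vl a haV y ≠ 0 := by
  have h1 : (Spec (CommRingCat.of k)).basicOpen (a.appLE V ⊤ haV y) = ⊤ ⊓ a ⁻¹ᵁ H.basicOpen y :=
    Scheme.basicOpen_appLE _ _ _ _ _
  have h2 : a t ∈ H.basicOpen y ↔ t ∈ (Spec (CommRingCat.of k)).basicOpen (a.appLE V ⊤ haV y) := by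
    rw [h1]
    exact ⟨fun h => ⟨trivial, h⟩, fun h => h.2⟩
  rw [h2]
  constructor
  · intro h h3
    have h4 : a.appLE V ⊤ haV y = 0 := by
      apply (ConcreteCategory.bijective_of_isIso (Scheme.ΓSpecIso (CommRingCat.of k)).hom).1
      rw [map_zero]
      exact h3
    rw [h4, Scheme.basicOpen_zero] at h
    exact h
  · intro h
    have h4 : IsUnit (a.appLE V ⊤ haV y) := by
      have h5 : IsUnit ((Scheme.ΓSpecIso (CommRingCat.of k)).hom (a.appLE V ⊤ haV y)) := isUnit_iff_ne_zero.2 h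
      exact (isUnit_map_iff (Scheme.ΓSpecIso (CommRingCat.of k)).commRingCatIsoToRingEquiv _).1 h5
    rw [Scheme.basicOpen_of_isUnit _ h4]
    trivial

/-- The fibre of a double covering at a `k`-point. -/
theorem mem_range_iff {Z H W : Scheme.{u}} {p : Z ⟶ H} {a : Spec (CommRingCat.of k) ⟶ H} {m : W ⟶ Z}
    {π : W ⟶ Spec (CommRingCat.of k)} (hm : m ≫ p = π ≫ a) [IsClosedImmersion m] (hns : ¬ Function.Surjective (str π))
    {V : H.Opens} (hV' : IsAffineOpen (p ⁻¹ᵁ V)) (haV : ⊤ ≤ a ⁻¹ᵁ V) (φ : Γ(Z, p ⁻¹ᵁ V))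
    (hφ : ∀ u : Γ(Z, p ⁻¹ᵁ V), ∃ x y : Γ(H, V), u = p.app V x + p.app V y * φ) (hW : ⊤ ≤ m ⁻¹ᵁ p ⁻¹ᵁ V)
    (x y : Γ(H, V)) (t : Spec (CommRingCat.of k)) :
    m.appLE (p ⁻¹ᵁ V) ⊤ hW (p.app V x + p.app V y * φ) ∈ Set.range (str π) ↔ a t ∉ H.basicOpen y := by
  have h1 : ∀ x : Γ(H, V), m.appLE (p ⁻¹ᵁ V) ⊤ hW (p.app V x) = str π (vl a haV x) := by
    intro x
    have h2 : p.app V ≫ m.appLE (p ⁻¹ᵁ V) ⊤ hW = a.appLE V ⊤ haV ≫ π.appTop := by
      have h3 : p.app V ≫ m.appLE (p ⁻¹ᵁ V) ⊤ hW = (m ≫ p).appLE V ⊤ hW := by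
        rw [Scheme.Hom.comp_appLE]
      have h4 : a.appLE V ⊤ haV ≫ π.appTop = (π ≫ a).appLE V ⊤ (by rw [← hm]; exact hW) := by
        have := Scheme.Hom.appLE_comp_appLE π a V ⊤ ⊤ haV le_rfl
        rw [← this]
        congr 1
        exact (Scheme.Hom.appLE_eq_app π).symm
      rw [h3, h4]
      congr 1
    have h3 := congrArg (fun ψ => ψ.hom x) h2
    refine h3.trans ?_
    have h5 := congrArg (fun ψ => ψ.hom (a.appLE V ⊤ haV x)) (Scheme.ΓSpecIso (CommRingCat.of k)).hom_inv_id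
    exact congrArg π.appTop h5.symm
  have hsurj : Function.Surjective (m.appLE (p ⁻¹ᵁ V) ⊤ hW) := by
    have h2 := m.app_surjective (p ⁻¹ᵁ V) hV'
    have h3 : m ⁻¹ᵁ (p ⁻¹ᵁ V) = ⊤ := top_le_iff.1 hW
    intro e
    obtain ⟨e', he'⟩ : ∃ e', W.presheaf.map (homOfLE hW).op e' = e := by
      have : IsIso (homOfLE hW) := by
        have : (homOfLE hW) = eqToHom h3.symm := Subsingleton.elim _ _
        rw [this]
        infer_instance
      exact (ConcreteCategory.bijective_of_isIso (W.presheaf.map (homOfLE hW).op)).2 e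
    obtain ⟨u, rfl⟩ := h2 e'
    exact ⟨u, he'⟩
  rw [mem_basicOpen_iff a haV, not_not, map_add, map_mul, h1, h1]
  constructor
  · rintro ⟨c, hc⟩
    by_contra hne
    apply hns
    have hφ' : m.appLE (p ⁻¹ᵁ V) ⊤ hW φ = str π ((vl a haV y)⁻¹ * (c - vl a haV x)) := by
      have h5 : str π (vl a haV y) * m.appLE (p ⁻¹ᵁ V) ⊤ hW φ = str π (c - vl a haV x) := by
        rw [map_sub, hc]
        ring
      rw [map_mul, ← h5, ← mul_assoc, ← map_mul, inv_mul_cancel₀ hne, map_one, one_mul]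
    intro e
    obtain ⟨u, rfl⟩ := hsurj e
    obtain ⟨x', y', rfl⟩ := hφ u
    refine ⟨vl a haV x' + vl a haV y' * ((vl a haV y)⁻¹ * (c - vl a haV x)), ?_⟩
    simp only [map_add, map_mul, h1, hφ']
  · intro h
    exact ⟨vl a haV x, by rw [h, map_zero, zero_mul, add_zero]⟩

end Pt

end K805.Taut
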