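import Groth.Agent.TautSh.K805.Local
import Groth.Agent.TautSh.K994.DblMap

/-!
# The exterior square of a double covering near a point: charts
-/

set_option autoImplicit false
universe u

open CategoryTheory CategoryTheory.Limits AlgebraicGeometry TopologicalSpace Module

namespace K805.Taut

open Groth.Agent Groth.Agent.Fdesc.LocGen K994 K994.DblMap
open Groth.Agent.PerfB.PushFLF (algPre pushO pushOEquiv)

/-- Near every point the algebra of a double covering is free with basis `1, ξ`, and `1 ∧ ξ` generates the exterior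
square. -/
theorem exists_chart {Z H : Scheme.{u}} {p : Z ⟶ H} [IsAffineHom p] (hp : FlatMod.IsFinLocFreeOfRank 2 (pushO p))
    {Λ : H.Modules} (hΛ : PicF.IsInvertible Λ) (φ : Sga67.ExtSheaf.Phi 2 (pushO p) Λ) (w : pushO p ⟶ Λ)
    (hw : ∀ (U : H.affineOpens) (x : Γ(pushO p, U.1)), w.app U.1 x = tauP (φ U) (pushOEquiv p U.1 1) x)
    (O : H.Opens) (h : H) (hO : h ∈ O) :
    ∃ (V : H.Opens) (ξ : Γ(Z, p ⁻¹ᵁ V)) (l : Γ(Λ, V)), IsAffineOpen V ∧ V ≤ O ∧ h ∈ V ∧ IsGen l ∧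
      (∀ u : Γ(Z, p ⁻¹ᵁ V), ∃ x y : Γ(H, V), u = p.app V x + p.app V y * ξ) ∧
      ∀ x y : Γ(H, V), w.app V (show Γ(pushO p, V) from p.app V x + p.app V y * ξ) = y • l := by
  obtain ⟨U, hxU, ⟨e⟩⟩ := hp h
  obtain ⟨b, hb⟩ := Sga67.LocBasis.nonempty_restrict_iso_iff.1 ⟨e⟩
  obtain ⟨V₀, g₀, hV₀, hg₀⟩ := (isInvertible_iff Λ).1 hΛ h
  obtain ⟨V, hV, hxV, hVle⟩ := PerfB.AffHom.exists_affine_le (U ⊓ (V₀ ⊓ O)) (x := h) ⟨hxU, hV₀, hO⟩
  have hg := hg₀.res (hVle.trans (inf_le_right.trans inf_le_left))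
  let : Algebra Γ(H, V) Γ(Z, p ⁻¹ᵁ V) := algPre p V
  have hsm : ∀ (r : Γ(H, V)) (z : Γ(Z, p ⁻¹ᵁ V)), r • z = p.app V r * z := fun r z => rfl
  obtain ⟨β, hβ⟩ := DblAlg.exists_basis_one ((hb.basis (hVle.trans inf_le_left)).map (pushOEquiv p V).symm)
  obtain ⟨φ', hφ'⟩ := exists_tau (pushOEquiv p V) (φ ⟨V, hV⟩)
  obtain ⟨D, hD⟩ := DblAlg.exists_detEquiv β
  have hw' : ∀ u : Γ(Z, p ⁻¹ᵁ V), w.app V (show Γ(pushO p, V) from u) = DblAlg.tau φ' u :=
    fun u => (hw ⟨V, hV⟩ u).trans (hφ' u).symm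
  have hdet : D (φ' (DblAlg.tau φ' (β 1))) = 1 := by
    rw [DblAlg.tau_apply, LinearEquiv.apply_symm_apply, hD]
    have h1 : (![(1 : Γ(Z, p ⁻¹ᵁ V)), β 1] : Fin 2 → Γ(Z, p ⁻¹ᵁ V)) = β := by
      ext i
      fin_cases i
      · exact hβ.symm
      · rfl
    rw [h1, Basis.det_self]
  have htau1 : DblAlg.tau φ' (1 : Γ(Z, p ⁻¹ᵁ V)) = 0 := by
    rw [DblAlg.tau_apply]
    have h1 : exteriorPower.ιMulti Γ(H, V) 2 ![(1 : Γ(Z, p ⁻¹ᵁ V)), 1] = 0 :=
      (exteriorPower.ιMulti Γ(H, V) 2).map_eq_zero_of_eq _ (i := 0) (j := 1) rfl (by decide)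
    rw [h1, map_zero]
  refine ⟨V, β 1, DblAlg.tau φ' (β 1), hV, hVle.trans (inf_le_right.trans inf_le_right), hxV, ?_, fun u => ?_,
    fun x y => ?_⟩
  · obtain ⟨c, hc⟩ := hg.exists_eq (DblAlg.tau φ' (β 1))
    have h1 : res Λ (hVle.trans (inf_le_right.trans inf_le_left)) g₀ =
        D (φ' (res Λ (hVle.trans (inf_le_right.trans inf_le_left)) g₀)) • DblAlg.tau φ' (β 1) := by
      apply φ'.injective
      apply D.injective
      rw [map_smul, map_smul, hdet, smul_eq_mul, mul_one]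
    have h2 : c * D (φ' (res Λ (hVle.trans (inf_le_right.trans inf_le_left)) g₀)) = 1 := by
      have h3 := congrArg (fun z => D (φ' z)) hc
      have h4 : D (φ' (c • res Λ (hVle.trans (inf_le_right.trans inf_le_left)) g₀)) =
          c * D (φ' (res Λ (hVle.trans (inf_le_right.trans inf_le_left)) g₀)) :=
        (congrArg D (φ'.map_smul c _)).trans (D.map_smul c _)
      exact h4.symm.trans (h3.symm.trans hdet)
    rw [hc]
    exact hg.unit_smul (IsUnit.of_mul_eq_one _ h2)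
  · refine ⟨β.repr u 0, β.repr u 1, ?_⟩
    have h1 := β.sum_repr u
    rw [Fin.sum_univ_two, hβ, hsm, hsm, mul_one] at h1
    exact h1.symm
  · rw [hw']
    have h1 : p.app V x + p.app V y * β 1 = x • (1 : Γ(Z, p ⁻¹ᵁ V)) + y • β 1 := by
      rw [hsm, hsm, mul_one]
    rw [h1, map_add, map_smul, map_smul, htau1, smul_zero, zero_add]
    rfl

end K805.Taut
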