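import Groth.Agent.TautSh.K805.Local2
import Groth.Agent.Picfga.HilbTriple

/-!
# Sections of the determinant of the tautological bundle coming from functions on an open subset
-/

set_option autoImplicit false
universe u

open CategoryTheory CategoryTheory.Limits AlgebraicGeometry TopologicalSpace Module

namespace K805.Taut

open Groth.Agent Groth.Agent.Fdesc.LocGen K994 K994.DblMap K994.Kpt K994.Fin
open Groth.Agent.PerfB.PushFLF (algPre pushO pushOEquiv)
open Groth.Agent.Picfga.HilbPull Groth.Agent.Picfga.HilbTriple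

section Sec

variable {C H : Scheme.{u}} (j : C ⟶ H) {Λ : H.Modules} {O : H.Opens}

/-- The pulled back section, as a global section. -/
noncomputable def pbs (hj : ∀ c, j c ∈ O) (σ : Γ(Λ, O)) : Coh.structureModule C ⟶ (Scheme.Modules.pullback j).obj Λ :=
  homOf (res _ (show ⊤ ≤ j ⁻¹ᵁ O from fun c _ => hj c) (pullSec j σ))

theorem mem_genLocus_pbs (hj : ∀ c, j c ∈ O) (σ : Γ(Λ, O)) {V : H.Opens} (hV : V ≤ O) {l : Γ(Λ, V)} (hl : IsGen l)
    {y : Γ(H, V)} (h : res Λ hV σ = y • l) (c : C) (hc : j c ∈ V) :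
    c ∈ CohB1.genLocus _ (pbs j hj σ) ↔ j c ∈ H.basicOpen y := by
  have h1 : sec (pbs j hj σ) (j ⁻¹ᵁ V) = j.app V y • pullSec j l := by
    rw [pbs, sec_homOf, res_res, ← pullSec_smul, ← h, ← res_pullSec]
  have h2 := genLocus_inf_eq (pbs j hj σ) (hl.pullSec j) h1
  have h3 : c ∈ CohB1.genLocus _ (pbs j hj σ) ↔ c ∈ C.basicOpen (j.app V y) := by
    rw [← h2]
    exact ⟨fun h => ⟨h, hc⟩, fun h => h.1⟩
  rw [h3, ← Scheme.preimage_basicOpen]
  rfl

end Sec

section Supp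

variable {X S : Scheme.{u}} (f : X ⟶ S) {H : Over S} (Z : HilbD.Obj f 2 H) (U : X.Opens)

/-- The open subset of the families with support in `U`. -/
noncomputable def opU : H.left.Opens :=
  ⟨(pi f Z.1 '' ((qq f Z.1 ⁻¹ᵁ U : Z.1.subscheme.Opens) : Set Z.1.subscheme)ᶜ)ᶜ, by
    have h : IsFinite (pi f Z.1) := Z.2.1.1
    exact ((pi f Z.1).isClosedMap _ (qq f Z.1 ⁻¹ᵁ U).isOpen.isClosed_compl).isOpen_compl⟩

theorem mem_opU (h : H.left) : h ∈ opU f Z U ↔ ∀ ζ : Z.1.subscheme, pi f Z.1 ζ = h → qq f Z.1 ζ ∈ U := by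
  constructor
  · intro hh ζ hζ
    by_contra hcon
    exact hh ⟨ζ, hcon, hζ⟩
  · rintro hh ⟨ζ, hζ, rfl⟩
    exact hζ (hh ζ rfl)

theorem preimage_opU_le : pi f Z.1 ⁻¹ᵁ opU f Z U ≤ qq f Z.1 ⁻¹ᵁ U := fun ζ hζ => (mem_opU f Z U _).1 hζ ζ rfl

/-- The function on the universal family given by a function on `U`. -/
noncomputable def fU (g : Γ(X, U)) : Γ(Z.1.subscheme, pi f Z.1 ⁻¹ᵁ opU f Z U) :=
  (qq f Z.1).appLE U _ (preimage_opU_le f Z U) g

end Supp

section Main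

variable {k : Type u} [Field k] {X : Scheme.{u}} (f : X ⟶ Spec (CommRingCat.of k)) {H : Over (Spec (CommRingCat.of k))}
  (Z : HilbD.Obj f 2 H) (U : X.Opens)

theorem top_le_of_mem (a : T₀ (Spec (CommRingCat.of k)) ⟶ H) (t : Spec (CommRingCat.of k)) (ha : a.left t ∈ opU f Z U) :
    ⊤ ≤ qq f (HilbD.pull f a Z.1) ⁻¹ᵁ U := by
  obtain ⟨m, hm, hmq⟩ := exists_isPullback_of_pull_eq f a Z.1 _ rfl
  intro z _
  change qq f (HilbD.pull f a Z.1) z ∈ U
  rw [← hmq, Scheme.Hom.comp_apply]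
  refine (mem_opU f Z U _).1 ha _ ?_
  rw [← Scheme.Hom.comp_apply, hm.w, Scheme.Hom.comp_apply]
  have h1 : ∀ t' : Spec (CommRingCat.of k), t' = t := fun t' => Subsingleton.elim _ _
  exact congrArg a.left (h1 _)

/-- Restriction of functions on `U` to the subscheme attached to a `k`-point. -/
noncomputable def ev (a : T₀ (Spec (CommRingCat.of k)) ⟶ H) (t : Spec (CommRingCat.of k)) (ha : a.left t ∈ opU f Z U) :
    Γ(X, U) →+* Γ((HilbD.pull f a Z.1).subscheme, ⊤) :=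
  ((qq f (HilbD.pull f a Z.1)).appLE U ⊤ (top_le_of_mem f Z U a t ha)).hom

theorem dm_eq_two (a : T₀ (Spec (CommRingCat.of k)) ⟶ H) : dm (pi f (HilbD.pull f a Z.1)) = 2 :=
  ((isFinLocFreeOfDeg_iff _ 2).1 (isFinLocFreeOfDeg_pull f a Z.2)).2

/-- The section `1 ∧ g` generates the determinant at a point if and only if `g` is not constant on the corresponding
subscheme. -/
theorem mem_genLocus_iff' [IsSeparated H.hom] {Λ : H.left.Modules} (hΛ : PicF.IsInvertible Λ)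
    (φ : Sga67.ExtSheaf.Phi 2 (pushO (pi f Z.1)) Λ) (w : pushO (pi f Z.1) ⟶ Λ)
    (hw : ∀ (U : H.left.affineOpens) (x : Γ(pushO (pi f Z.1), U.1)),
      w.app U.1 x = tauP (φ U) (pushOEquiv (pi f Z.1) U.1 1) x)
    (hp : FlatMod.IsFinLocFreeOfRank 2 (pushO (pi f Z.1))) {C : Scheme.{u}} (j : C ⟶ H.left)
    (hj : ∀ c, j c ∈ opU f Z U) (g : Γ(X, U)) (c : C) (a : T₀ (Spec (CommRingCat.of k)) ⟶ H)
    (t : Spec (CommRingCat.of k)) (hac : a.left t = j c) (ha : a.left t ∈ opU f Z U) :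
    c ∈ CohB1.genLocus _ (pbs j hj (w.app (opU f Z U) (show Γ(pushO (pi f Z.1), opU f Z U) from fU f Z U g))) ↔
      ev f Z U a t ha g ∉ Set.range (str (pi f (HilbD.pull f a Z.1))) := by
  have hfin : IsFinite (pi f Z.1) := Z.2.1.1
  obtain ⟨V, ξ, l, hV, hVO, hcV, hl, hξ, hwl⟩ := exists_chart hp hΛ φ w hw (opU f Z U) (j c) (hj c)
  obtain ⟨m, hm, hmq⟩ := exists_isPullback_of_pull_eq f a Z.1 _ rfl
  have hsub : Subsingleton (T₀ (Spec (CommRingCat.of k))).left := inferInstanceAs (Subsingleton (Spec (CommRingCat.of k)))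
  have hci : IsClosedImmersion a.left := isClosedImmersion_of_comp_eq_id _ _ (Over.w a)
  have hcm : IsClosedImmersion m := MorphismProperty.of_isPullback hm.flip hci
  have haV : ⊤ ≤ a.left ⁻¹ᵁ V := by
    intro t' _
    change a.left t' ∈ V
    have h0 : ∀ t'' : Spec (CommRingCat.of k), t'' = t := fun t'' => Subsingleton.elim _ _
    have : t' = t := h0 t'
    rw [this, hac]
    exact hcV
  have hW : ⊤ ≤ m ⁻¹ᵁ (pi f Z.1) ⁻¹ᵁ V := by
    intro z _
    change (pi f Z.1) (m z) ∈ V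
    rw [← Scheme.Hom.comp_apply, hm.w, Scheme.Hom.comp_apply]
    exact haV (x := pi f (HilbD.pull f a Z.1) z) trivial
  obtain ⟨x, y, hxy⟩ := hξ (ores ((pi f Z.1).preimage_mono hVO) (fU f Z U g))
  have h1 : res Λ hVO (w.app (opU f Z U) (show Γ(pushO (pi f Z.1), opU f Z U) from fU f Z U g)) = y • l := by
    rw [← app_res, ← hwl x y]
    exact congrArg (w.app V) hxy
  rw [mem_genLocus_pbs j hj _ hVO hl h1 c hcV]
  have h2 := mem_range_iff hm.w (not_surjective_str _ (dm_eq_two f Z a)) (hV.preimage (pi f Z.1)) haV ξ hξ hW x y t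
  have h3 : m.appLE (pi f Z.1 ⁻¹ᵁ V) ⊤ hW ((pi f Z.1).app V x + (pi f Z.1).app V y * ξ) = ev f Z U a t ha g := by
    rw [← hxy]
    have h4 : (qq f Z.1).appLE U (pi f Z.1 ⁻¹ᵁ opU f Z U) (preimage_opU_le f Z U) ≫
        Z.1.subscheme.presheaf.map (homOfLE ((pi f Z.1).preimage_mono hVO)).op ≫
        m.appLE (pi f Z.1 ⁻¹ᵁ V) ⊤ hW =
        (qq f (HilbD.pull f a Z.1)).appLE U ⊤ (top_le_of_mem f Z U a t ha) := by
      rw [Scheme.Hom.map_appLE, Scheme.Hom.appLE_comp_appLE]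
      congr 1
    exact congrArg (fun ψ => ψ.hom g) h4
  rw [h3] at h2
  rw [← hac, h2, not_not]

end Main

end K805.Taut
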