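import Groth.Agent.TautSh.K805.Local3

/-!
# Finite subschemes of an affine open subset
-/

set_option autoImplicit false
universe u

open CategoryTheory CategoryTheory.Limits AlgebraicGeometry TopologicalSpace Module

namespace K805.Taut

open Groth.Agent Groth.Agent.Fdesc.LocGen K994 K994.DblMap K994.Kpt K994.Fin
open Groth.Agent.PerfB.PushFLF (algPre pushO pushOEquiv)
open Groth.Agent.Picfga.HilbPull Groth.Agent.Picfga.HilbTriple

section Ker

variable {X W : Scheme.{u}} (i : W ⟶ X) [IsClosedImmersion i] {U : X.Opens} (hU : IsAffineOpen U) (h : ⊤ ≤ i ⁻¹ᵁ U)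

include hU in
theorem surjective_appLE : Function.Surjective (i.appLE U ⊤ h) := by
  have h2 := i.app_surjective U hU
  have h3 : i ⁻¹ᵁ U = ⊤ := top_le_iff.1 h
  intro e
  obtain ⟨e', he'⟩ : ∃ e', W.presheaf.map (homOfLE h).op e' = e := by
    have : IsIso (homOfLE h) := by
      have : (homOfLE h) = eqToHom h3.symm := Subsingleton.elim _ _
      rw [this]
      infer_instance
    exact (ConcreteCategory.bijective_of_isIso (W.presheaf.map (homOfLE h).op)).2 e
  obtain ⟨u, rfl⟩ := h2 e'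
  exact ⟨u, he'⟩

include hU in
/-- The ideal sheaf of a closed subscheme contained in an affine open subset. -/
theorem exists_lift_affine : ∃ l : W ⟶ (U : Scheme.{u}), l ≫ U.ι = i ∧
    ∀ s : Γ(X, U), s ∈ RingHom.ker (i.appLE U ⊤ h).hom ↔ U.topIso.inv s ∈ RingHom.ker l.appTop.hom := by
  have hr : Set.range i ⊆ Set.range U.ι := by
    rw [Scheme.Opens.range_ι]
    rintro _ ⟨w, rfl⟩
    exact h (x := w) trivial
  refine ⟨IsOpenImmersion.lift U.ι i hr, IsOpenImmersion.lift_fac _ _ _, fun s => ?_⟩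
  have h1 : U.topIso.inv ≫ (IsOpenImmersion.lift U.ι i hr).appTop = i.appLE U ⊤ h := by
    have h2 : U.topIso.inv = U.ι.appLE U ⊤ (by simp) := by
      rw [Scheme.Opens.topIso_inv]
      simp only [Scheme.Hom.appLE, Scheme.Opens.ι_app, Scheme.Opens.toScheme_presheaf_map]
      exact X.presheaf.map_comp _ _
    have h3 : (IsOpenImmersion.lift U.ι i hr).appTop = (IsOpenImmersion.lift U.ι i hr).appLE ⊤ ⊤ le_rfl :=
      (Scheme.Hom.appLE_eq_app _).symm
    rw [h2, h3, Scheme.Hom.appLE_comp_appLE]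
    congr 1
    exact IsOpenImmersion.lift_fac _ _ _
  rw [RingHom.mem_ker, RingHom.mem_ker, ← h1]
  rfl

end Ker

theorem ker_eq_of_ker_eq {X W₀ W₁ : Scheme.{u}} (i₀ : W₀ ⟶ X) (i₁ : W₁ ⟶ X) [IsClosedImmersion i₀] [IsClosedImmersion i₁]
    {U : X.Opens} (hU : IsAffineOpen U) (h₀ : ⊤ ≤ i₀ ⁻¹ᵁ U) (h₁ : ⊤ ≤ i₁ ⁻¹ᵁ U)
    (hk : RingHom.ker (i₀.appLE U ⊤ h₀).hom = RingHom.ker (i₁.appLE U ⊤ h₁).hom) : i₀.ker = i₁.ker := by
  obtain ⟨l₀, hl₀, hs₀⟩ := exists_lift_affine i₀ hU h₀
  obtain ⟨l₁, hl₁, hs₁⟩ := exists_lift_affine i₁ hU h₁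
  have : IsAffine (U : Scheme.{u}) := hU
  have hc₀ : IsClosedImmersion l₀ := by
    have : IsClosedImmersion (l₀ ≫ U.ι) := by rw [hl₀]; infer_instance
    exact IsClosedImmersion.of_comp l₀ U.ι
  have hc₁ : IsClosedImmersion l₁ := by
    have : IsClosedImmersion (l₁ ≫ U.ι) := by rw [hl₁]; infer_instance
    exact IsClosedImmersion.of_comp l₁ U.ι
  rw [← hl₀, ← hl₁, ← Scheme.IdealSheafData.map_ker, ← Scheme.IdealSheafData.map_ker]
  congr 1
  apply Scheme.IdealSheafData.ext_of_isAffine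
  rw [Scheme.Hom.ker_apply, Scheme.Hom.ker_apply]
  ext s
  obtain ⟨s, rfl⟩ := (ConcreteCategory.bijective_of_isIso U.topIso.inv).2 s
  exact (hs₀ s).symm.trans ((by rw [hk] : _ ↔ _).trans (hs₁ s))

section Main

variable {k : Type u} [Field k] {X : Scheme.{u}} {f : X ⟶ Spec (CommRingCat.of k)} {H : Over (Spec (CommRingCat.of k))}
  {Z : HilbD.Obj f 2 H} {U : X.Opens} (hU : IsAffineOpen U)

theorem isClosedImmersion_qq (a : T₀ (Spec (CommRingCat.of k)) ⟶ H) :
    IsClosedImmersion (qq f (HilbD.pull f a Z.1)) :=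
  inferInstanceAs (IsClosedImmersion ((HilbD.pull f a Z.1).subschemeι ≫ pr f))

include hU in
theorem ev_surjective (a : T₀ (Spec (CommRingCat.of k)) ⟶ H) (t : Spec (CommRingCat.of k))
    (ha : a.left t ∈ opU f Z U) : Function.Surjective (ev f Z U a t ha) := by
  have := isClosedImmersion_qq (Z := Z) a
  exact surjective_appLE _ hU _

include hU in
/-- The point is determined by the ideal. -/
theorem eq_of_ker_eq (hZ : HilbD.IsUniversal f 2 H Z) (a b : T₀ (Spec (CommRingCat.of k)) ⟶ H)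
    (t : Spec (CommRingCat.of k)) (ha : a.left t ∈ opU f Z U) (hb : b.left t ∈ opU f Z U)
    (h : RingHom.ker (ev f Z U a t ha) = RingHom.ker (ev f Z U b t hb)) : a = b := by
  have h1 := isClosedImmersion_qq (Z := Z) a
  have h2 := isClosedImmersion_qq (Z := Z) b
  apply hom_ext_of_isUniversal hZ
  apply idl_injective f
  exact ker_eq_of_ker_eq _ _ hU _ _ h

include hU in
/-- The points are separated by the preimages of the constants. -/
theorem eq_of_range (hZ : HilbD.IsUniversal f 2 H Z) (a b : T₀ (Spec (CommRingCat.of k)) ⟶ H)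
    (t : Spec (CommRingCat.of k)) (ha : a.left t ∈ opU f Z U) (hb : b.left t ∈ opU f Z U)
    (h : ∀ g, ev f Z U a t ha g ∈ Set.range (str (pi f (HilbD.pull f a Z.1))) ↔
      ev f Z U b t hb g ∈ Set.range (str (pi f (HilbD.pull f b Z.1)))) : a = b := by
  apply eq_of_ker_eq hU hZ a b t ha hb
  exact le_antisymm
    (ker_le_of_range _ _ (not_surjective_str _ (dm_eq_two f Z b)) _ _ (ev_surjective hU b t hb) fun g => (h g).1)
    (ker_le_of_range _ _ (not_surjective_str _ (dm_eq_two f Z a)) _ _ (ev_surjective hU a t ha) fun g => (h g).2)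

include hU in
theorem exists_not_mem_range (a : T₀ (Spec (CommRingCat.of k)) ⟶ H) (t : Spec (CommRingCat.of k))
    (ha : a.left t ∈ opU f Z U) : ∃ g, ev f Z U a t ha g ∉ Set.range (str (pi f (HilbD.pull f a Z.1))) := by
  by_contra hcon
  push Not at hcon
  apply not_surjective_str _ (dm_eq_two f Z a)
  intro e
  obtain ⟨g, rfl⟩ := ev_surjective hU a t ha e
  exact hcon g

end Main

end K805.Taut
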