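import Groth.Prelude.Def_TautSec2
import Groth.Agent.Grpd.K394.FinEq
import Groth.Agent.HilbZeta.K842.Split
import Groth.Agent.Picfga.HilbTriple
import Groth.Agent.Sga3C.ClosedSub

/-!
# Families of two points: disjoint sections and pairs of sections over a finite cover
-/

set_option autoImplicit false
universe u

open CategoryTheory CategoryTheory.Limits AlgebraicGeometry TopologicalSpace

namespace K805.Taut

open Groth.Agent Groth.Agent.Picfga.HilbPull Groth.Agent.Picfga.HilbTriple

section Coprod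

theorem ker_coprodDesc {Y Z W : Scheme.{u}} (i : Y ⟶ W) (j : Z ⟶ W) :
    (coprod.desc i j).ker = i.ker ⊓ j.ker := by
  apply le_antisymm
  · refine le_inf ?_ ?_
    · have h := Scheme.Hom.le_ker_comp (coprod.inl : Y ⟶ Y ⨿ Z) (coprod.desc i j)
      rwa [coprod.inl_desc] at h
    · have h := Scheme.Hom.le_ker_comp (coprod.inr : Z ⟶ Y ⨿ Z) (coprod.desc i j)
      rwa [coprod.inr_desc] at h
  · set I := i.ker ⊓ j.ker with hI
    have hk : I.subschemeι.ker = I := Scheme.IdealSheafData.ker_subschemeι I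
    obtain ⟨a, ha⟩ := (Sga3C.ClosedSub.factors_iff I.subschemeι i).2 (by rw [hk]; exact inf_le_left)
    obtain ⟨b, hb⟩ := (Sga3C.ClosedSub.factors_iff I.subschemeι j).2 (by rw [hk]; exact inf_le_right)
    have h1 : coprod.desc a b ≫ I.subschemeι = coprod.desc i j := by
      apply coprod.hom_ext
      · rw [coprod.inl_desc_assoc, ha, coprod.inl_desc]
      · rw [coprod.inr_desc_assoc, hb, coprod.inr_desc]
    rw [← hk]
    exact (Sga3C.ClosedSub.factors_iff I.subschemeι _).1 ⟨_, h1⟩

end Coprod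

section Graph

variable {X S : Scheme.{u}} (f : X ⟶ S)

theorem graphsIdeal_two (T : Over S) (x : Fin 2 → (T.left ⟶ X)) (hx : ∀ i, x i ≫ f = T.hom) :
    TautSh.graphsIdeal f 2 T x hx = HilbD.secGraph f T (x 0) (hx 0) ⊓ HilbD.secGraph f T (x 1) (hx 1) := by
  unfold TautSh.graphsIdeal
  apply le_antisymm
  · exact le_inf (iInf_le _ 0) (iInf_le _ 1)
  · refine le_iInf fun i => ?_
    fin_cases i
    · exact inf_le_left
    · exact inf_le_right

/-- The graph of a section. -/
noncomputable abbrev gr (T : Over S) (x : T.left ⟶ X) (hx : x ≫ f = T.hom) : T.left ⟶ PicF.XT f T :=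
  pullback.lift x (𝟙 T.left) (by simpa using hx)

theorem gr_snd (T : Over S) (x : T.left ⟶ X) (hx : x ≫ f = T.hom) : gr f T x hx ≫ PicF.XTproj f T = 𝟙 _ :=
  pullback.lift_snd _ _ _

theorem isClosedImmersion_gr [IsSeparated f] (T : Over S) (x : T.left ⟶ X) (hx : x ≫ f = T.hom) :
    IsClosedImmersion (gr f T x hx) := by
  have h1 : IsClosedImmersion (gr f T x hx ≫ PicF.XTproj f T) := by
    rw [gr_snd]
    infer_instance
  have : IsSeparated (PicF.XTproj f T) := inferInstanceAs (IsSeparated (pullback.snd f T.hom))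
  exact IsClosedImmersion.of_comp (gr f T x hx) (PicF.XTproj f T)

theorem isFinLocFreeOfDeg_id (T : Scheme.{u}) : Mor2.IsFinLocFreeOfDeg 1 (𝟙 T) :=
  ⟨⟨inferInstance, inferInstance, inferInstance⟩, fun y => congrFun (Scheme.Hom.finrank_eq_one_of_isIso (𝟙 T)) y⟩

theorem disjoint_range_iff [IsSeparated f] (T : Over S) (x y : T.left ⟶ X) (hx : x ≫ f = T.hom) (hy : y ≫ f = T.hom) :
    HilbD.secGraph f T x hx ⊔ HilbD.secGraph f T y hy = ⊤ ↔
      Disjoint (Set.range (gr f T x hx)) (Set.range (gr f T y hy)) := by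
  have h1 := isClosedImmersion_gr f T x hx
  have h2 := isClosedImmersion_gr f T y hy
  have e : ∀ (z : T.left ⟶ X) (hz : z ≫ f = T.hom), IsClosedImmersion (gr f T z hz) →
      ((HilbD.secGraph f T z hz).support : Set (PicF.XT f T)) = Set.range (gr f T z hz) := by
    intro z hz h
    have h0 := Scheme.Hom.support_ker (gr f T z hz)
    refine h0.trans ?_
    exact (gr f T z hz).isClosedEmbedding.isClosed_range.closure_eq
  rw [← Scheme.IdealSheafData.support_eq_bot_iff, Scheme.IdealSheafData.support_sup, Set.disjoint_iff_inter_eq_empty,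
    ← e x hx h1, ← e y hy h2]
  constructor
  · intro h
    have := congrArg (fun C : Closeds _ => (C : Set (PicF.XT f T))) h
    simpa using this
  · intro h
    apply SetLike.coe_injective
    simpa using h

/-- Two sections with disjoint graphs give an element of `Hilb²`. -/
theorem isFinLocFreeOfDeg_graphs [IsSeparated f] (T : Over S) (x : Fin 2 → (T.left ⟶ X)) (hx : ∀ i, x i ≫ f = T.hom)
    (hd : Disjoint (Set.range (gr f T (x 0) (hx 0))) (Set.range (gr f T (x 1) (hx 1)))) :
    ∃ e : (T.left ⨿ T.left : Scheme.{u}) ≅ (TautSh.graphsIdeal f 2 T x hx).subscheme,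
      e.hom ≫ (TautSh.graphsIdeal f 2 T x hx).subschemeι = coprod.desc (gr f T (x 0) (hx 0)) (gr f T (x 1) (hx 1)) := by
  have h1 := isClosedImmersion_gr f T (x 0) (hx 0)
  have h2 := isClosedImmersion_gr f T (x 1) (hx 1)
  have h3 := K842.Split.isClosedImmersion_coprodDesc _ _ hd
  have h4 : (coprod.desc (gr f T (x 0) (hx 0)) (gr f T (x 1) (hx 1))).ker = TautSh.graphsIdeal f 2 T x hx := by
    rw [ker_coprodDesc, graphsIdeal_two]
    rfl
  rw [← h4]
  exact ⟨asIso (coprod.desc (gr f T (x 0) (hx 0)) (gr f T (x 1) (hx 1))).toImage,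
    (coprod.desc (gr f T (x 0) (hx 0)) (gr f T (x 1) (hx 1))).toImage_imageι⟩

end Graph

end K805.Taut
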