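import Groth.Agent.TautSh.K805.Pair
import Groth.Agent.Fga.IntegralSub
import Groth.Agent.AlgGrp.K405.RedClosed

/-!
# Families of two points: an integral finite cover carrying two different sections
-/

set_option autoImplicit false
universe u

open CategoryTheory CategoryTheory.Limits AlgebraicGeometry TopologicalSpace

namespace K805.Taut

open Groth.Agent Groth.Agent.Picfga.HilbPull Groth.Agent.Picfga.HilbTriple

section Cover

variable {Z H : Scheme.{u}} (p : Z ⟶ H)

theorem exists_integral_pair [IsIntegral H] [IsFinite p] [Flat p] [LocallyOfFinitePresentation p]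
    (w : (pullback p p : Scheme.{u})) (hw : w ∉ Set.range (pullback.diagonal p)) :
    ∃ (Γ' : Scheme.{u}) (z₀ z₁ : Γ' ⟶ Z), IsIntegral Γ' ∧ IsFinite (z₀ ≫ p) ∧ Surjective (z₀ ≫ p) ∧
      z₀ ≫ p = z₁ ≫ p ∧ z₀ ≠ z₁ := by
  let g : (pullback p p : Scheme.{u}) ⟶ H := pullback.fst p p ≫ p
  have hcl : IsClosed (Set.range (pullback.diagonal p)) := (pullback.diagonal p).isClosedEmbedding.isClosed_range
  have hopen : IsOpen (g '' (Set.range (pullback.diagonal p))ᶜ) := by
    have : UniversallyOpen g := inferInstance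
    exact g.isOpenMap _ hcl.isOpen_compl
  obtain ⟨v, hv, hvg⟩ : genericPoint H ∈ g '' (Set.range (pullback.diagonal p))ᶜ :=
    ((genericPoint_spec H).mem_open_set_iff hopen).2 ⟨g w, trivial, w, hw, rfl⟩
  obtain ⟨Γ', i, hi, hint, hgen, hr⟩ := Fga.IntegralSub.exists_integral_closed v
  have hfin : IsFinite ((i ≫ pullback.fst p p) ≫ p) := by
    rw [Category.assoc]
    infer_instance
  refine ⟨Γ', i ≫ pullback.fst p p, i ≫ pullback.snd p p, hint, hfin, ?_, ?_, fun h => hv ?_⟩
  · have h1 : IsClosed (Set.range ((i ≫ pullback.fst p p) ≫ p)) :=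
      ((i ≫ pullback.fst p p) ≫ p).isClosedMap.isClosed_range
    have h2 : genericPoint H ∈ Set.range ((i ≫ pullback.fst p p) ≫ p) := by
      refine ⟨genericPoint Γ', ?_⟩
      rw [Category.assoc, Scheme.Hom.comp_apply, hgen]
      exact hvg
    have h3 : closure {genericPoint H} ⊆ Set.range ((i ≫ pullback.fst p p) ≫ p) :=
      h1.closure_subset_iff.2 (Set.singleton_subset_iff.2 h2)
    rw [genericPoint_closure] at h3
    exact ⟨fun h => h3 trivial⟩
  · rw [Category.assoc, Category.assoc, pullback.condition]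
  · have h1 : i = (i ≫ pullback.fst p p) ≫ pullback.diagonal p := by
      apply pullback.hom_ext
      · rw [Category.assoc, pullback.diagonal_fst, Category.comp_id]
      · rw [Category.assoc, pullback.diagonal_snd, Category.comp_id, h]
    refine ⟨(i ≫ pullback.fst p p) (genericPoint Γ'), ?_⟩
    rw [← Scheme.Hom.comp_apply, ← h1]
    exact hgen

/-- The open subset where two sections are disjoint. -/
theorem exists_open_ne {Γ' : Scheme.{u}} [IsSeparated p] (z₀ z₁ : Γ' ⟶ Z) [IsReduced Γ'] (h : z₀ ≫ p = z₁ ≫ p) (hne : z₀ ≠ z₁) :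
    ∃ W : Γ'.Opens, Nonempty W ∧ ∀ x : Γ', x ∈ W ↔ pullback.lift z₀ z₁ h x ∉ Set.range (pullback.diagonal p) := by
  have hcl : IsClosed (Set.range (pullback.diagonal p)) := (pullback.diagonal p).isClosedEmbedding.isClosed_range
  refine ⟨⟨(pullback.lift z₀ z₁ h) ⁻¹' (Set.range (pullback.diagonal p))ᶜ,
    hcl.isOpen_compl.preimage (pullback.lift z₀ z₁ h).continuous⟩, ?_, fun x => Iff.rfl⟩
  by_contra hcon
  have h1 : Set.range (pullback.lift z₀ z₁ h) ⊆ Set.range (pullback.diagonal p) := by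
    rintro _ ⟨x, rfl⟩
    by_contra hx
    exact hcon ⟨⟨x, hx⟩⟩
  obtain ⟨a, ha⟩ := K405.RedClosed.exists_lift (pullback.diagonal p) (pullback.lift z₀ z₁ h) h1
  apply hne
  have h2 : a = z₀ := by
    rw [← pullback.lift_fst z₀ z₁ h, ← ha, Category.assoc, pullback.diagonal_fst, Category.comp_id]
  have h3 : a = z₁ := by
    rw [← pullback.lift_snd z₀ z₁ h, ← ha, Category.assoc, pullback.diagonal_snd, Category.comp_id]
  rw [← h2, ← h3]

end Cover

section Desc

variable {Z H : Scheme.{u}} (p : Z ⟶ H)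

/-- The base change of a finite flat covering of degree two to a scheme with two disjoint sections. -/
theorem isIso_desc (hp : Mor2.IsFinLocFreeOfDeg 2 p) {T P : Scheme.{u}} (g : T ⟶ H) (z : Fin 2 → (T ⟶ Z))
    (hz : ∀ i, z i ≫ p = g)
    (hd : ∀ t : T, pullback.lift (z 0) (z 1) ((hz 0).trans (hz 1).symm) t ∉ Set.range (pullback.diagonal p))
    {m : P ⟶ Z} {π : P ⟶ T} (hm : IsPullback m π p g) :
    (∀ i, IsClosedImmersion (hm.lift (z i) (𝟙 T) (by rw [hz i, Category.id_comp]))) ∧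
    Disjoint (Set.range (hm.lift (z 0) (𝟙 T) (by rw [hz 0, Category.id_comp])))
      (Set.range (hm.lift (z 1) (𝟙 T) (by rw [hz 1, Category.id_comp]))) ∧
    IsIso (coprod.desc (hm.lift (z 0) (𝟙 T) (by rw [hz 0, Category.id_comp]))
      (hm.lift (z 1) (𝟙 T) (by rw [hz 1, Category.id_comp]))) := by
  let j : Fin 2 → (T ⟶ P) := fun i => hm.lift (z i) (𝟙 _) (by rw [hz i, Category.id_comp])
  have hjm : ∀ i, j i ≫ m = z i := fun i => hm.lift_fst _ _ _
  have hjp : ∀ i, j i ≫ π = 𝟙 _ := fun i => hm.lift_snd _ _ _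
  have hfin : Mor2.IsFinLocFreeOfDeg 2 π := isFinLocFreeOfDeg_of_isPullback hm hp
  have hsep : IsSeparated π := by
    have : IsFinite π := hfin.1.1
    infer_instance
  have hci : ∀ i, IsClosedImmersion (j i) := by
    intro i
    have : IsClosedImmersion (j i ≫ π) := by
      rw [hjp i]
      infer_instance
    exact IsClosedImmersion.of_comp (j i) π
  have hdj : Disjoint (Set.range (j 0)) (Set.range (j 1)) := by
    rw [Set.disjoint_left]
    rintro _ ⟨a, rfl⟩ ⟨b, hb⟩
    obtain ⟨y, hy1, hy2⟩ := Scheme.Pullback.exists_preimage_pullback a b hb.symm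
    have e0 : pullback.fst (j 0) (j 1) = pullback.snd (j 0) (j 1) := by
      have h1 := congrArg (fun t => t ≫ π) (pullback.condition (f := j 0) (g := j 1))
      simp only [Category.assoc] at h1
      rwa [hjp 0, hjp 1, Category.comp_id, Category.comp_id] at h1
    have e1 : pullback.fst (j 0) (j 1) ≫ z 0 = pullback.fst (j 0) (j 1) ≫ z 1 := by
      rw [← hjm 0, ← hjm 1]
      conv_rhs => rw [e0]
      rw [← Category.assoc, pullback.condition, Category.assoc]
    apply hd a
    refine ⟨(pullback.fst (j 0) (j 1) ≫ z 0) y, ?_⟩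
    have e2 : (pullback.fst (j 0) (j 1) ≫ z 0) ≫ pullback.diagonal p =
        pullback.fst (j 0) (j 1) ≫ pullback.lift (z 0) (z 1) ((hz 0).trans (hz 1).symm) := by
      apply pullback.hom_ext
      · rw [Category.assoc, pullback.diagonal_fst, Category.comp_id, Category.assoc, pullback.lift_fst]
      · rw [Category.assoc, pullback.diagonal_snd, Category.comp_id, Category.assoc, pullback.lift_snd, e1]
    rw [← Scheme.Hom.comp_apply, ← hy1, ← Scheme.Hom.comp_apply, e2]
  refine ⟨hci, hdj, ?_⟩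
  have h0 := hci 0
  have h1 := hci 1
  have hc : IsClosedImmersion (coprod.desc (j 0) (j 1)) := K842.Split.isClosedImmersion_coprodDesc _ _ hdj
  refine K394.FinFam.isIso_of_deg_eq (coprod.desc (j 0) (j 1)) π hfin ?_
  have e1 : coprod.desc (j 0) (j 1) ≫ π = coprod.desc (𝟙 T) (𝟙 T) := by
    apply coprod.hom_ext
    · rw [coprod.inl_desc_assoc, hjp, coprod.inl_desc]
    · rw [coprod.inr_desc_assoc, hjp, coprod.inr_desc]
  rw [e1]
  exact K842.CoprodRank.isFinLocFreeOfDeg_coprodDesc _ _ rfl (isFinLocFreeOfDeg_id _) (isFinLocFreeOfDeg_id _)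

/-- The two sections over an integral cover exhaust the fibres. -/
theorem eq_or_eq (hp : Mor2.IsFinLocFreeOfDeg 2 p) {Γ' : Scheme.{u}} [IsIntegral Γ'] (g : Γ' ⟶ H) (z : Fin 2 → (Γ' ⟶ Z))
    (hz : ∀ i, z i ≫ p = g) (hne : z 0 ≠ z 1) (γ : Γ') (ζ : Z) (h : p ζ = g γ) : ∃ i, z i γ = ζ := by
  have hfin : Mor2.IsFinLocFreeOfDeg 2 (pullback.snd p g) :=
    isFinLocFreeOfDeg_of_isPullback (IsPullback.of_hasPullback p g) hp
  have hfinp : IsFinite p := hp.1.1
  let J : Fin 2 → (Γ' ⟶ pullback p g) := fun i => pullback.lift (z i) (𝟙 _) (by rw [hz i, Category.id_comp])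
  have hJf : ∀ i, J i ≫ pullback.fst p g = z i := fun i => pullback.lift_fst _ _ _
  have hJs : ∀ i, J i ≫ pullback.snd p g = 𝟙 _ := fun i => pullback.lift_snd _ _ _
  have hci : ∀ i, IsClosedImmersion (J i) := by
    intro i
    have : IsClosedImmersion (J i ≫ pullback.snd p g) := by
      rw [hJs i]
      infer_instance
    exact IsClosedImmersion.of_comp (J i) (pullback.snd p g)
  have key : Set.range (J 0) ∪ Set.range (J 1) = Set.univ := by
    by_contra hcon
    have hcl : IsClosed (Set.range (J 0) ∪ Set.range (J 1)) :=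
      ((hci 0).isClosedEmbedding.isClosed_range).union ((hci 1).isClosedEmbedding.isClosed_range)
    have hflat : Flat (pullback.snd p g) := hfin.1.2.1
    have hlfp : LocallyOfFinitePresentation (pullback.snd p g) := hfin.1.2.2
    have hopen : IsOpen (pullback.snd p g '' (Set.range (J 0) ∪ Set.range (J 1))ᶜ) := by
      have : UniversallyOpen (pullback.snd p g) := inferInstance
      exact (pullback.snd p g).isOpenMap _ hcl.isOpen_compl
    obtain ⟨W, hW, hW'⟩ := exists_open_ne p (z 0) (z 1) ((hz 0).trans (hz 1).symm) hne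
    obtain ⟨π₀, hπ₀⟩ : ((Set.range (J 0) ∪ Set.range (J 1))ᶜ).Nonempty := Set.nonempty_compl.2 hcon
    obtain ⟨t, ⟨π, hπ, hπt⟩, htW⟩ : (pullback.snd p g '' (Set.range (J 0) ∪ Set.range (J 1))ᶜ ∩ (W : Set Γ')).Nonempty :=
      nonempty_preirreducible_inter hopen W.isOpen ⟨_, π₀, hπ₀, rfl⟩ ⟨hW.some.1, hW.some.2⟩
    have hm : IsPullback (pullback.fst (pullback.snd p g) W.ι ≫ pullback.fst p g) (pullback.snd (pullback.snd p g) W.ι) p
        (W.ι ≫ g) :=
      (IsPullback.of_hasPullback (pullback.snd p g) W.ι).paste_horiz (IsPullback.of_hasPullback p g)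
    have hz' : ∀ i, (W.ι ≫ z i) ≫ p = W.ι ≫ g := fun i => by rw [Category.assoc, hz]
    obtain ⟨-, -, hiso⟩ := isIso_desc p hp (W.ι ≫ g) (fun i => W.ι ≫ z i) hz' (by
      intro t
      have h3 := (hW' t.1).1 t.2
      intro h4
      apply h3
      obtain ⟨y, hy⟩ := h4
      refine ⟨y, hy.trans ?_⟩
      have h5 : pullback.lift (W.ι ≫ z 0) (W.ι ≫ z 1) ((hz' 0).trans (hz' 1).symm) =
          W.ι ≫ pullback.lift (z 0) (z 1) ((hz 0).trans (hz 1).symm) := by
        apply pullback.hom_ext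
        · rw [pullback.lift_fst, Category.assoc, pullback.lift_fst]
        · rw [pullback.lift_snd, Category.assoc, pullback.lift_snd]
      have h6 := congrArg (fun φ => φ t) h5
      refine h6.trans ?_
      rw [Scheme.Hom.comp_apply]
      rfl) hm
    obtain ⟨π', h1, -⟩ := Scheme.Pullback.exists_preimage_pullback (f := pullback.snd p g) (g := W.ι) π
      (⟨t, htW⟩ : W) hπt
    let jW : Fin 2 → ((W : Scheme.{u}) ⟶ pullback (pullback.snd p g) W.ι) := fun i =>
      hm.lift (W.ι ≫ z i) (𝟙 _) (by rw [hz' i, Category.id_comp])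
    have hjf : ∀ i, jW i ≫ pullback.fst (pullback.snd p g) W.ι ≫ pullback.fst p g = W.ι ≫ z i := fun i =>
      hm.lift_fst _ _ _
    have hjs : ∀ i, jW i ≫ pullback.snd (pullback.snd p g) W.ι = 𝟙 _ := fun i => hm.lift_snd _ _ _
    have hiso' : IsIso (coprod.desc (jW 0) (jW 1)) := hiso
    have hj : ∀ i, jW i ≫ pullback.fst (pullback.snd p g) W.ι = W.ι ≫ J i := by
      intro i
      apply pullback.hom_ext
      · rw [Category.assoc, hjf, Category.assoc, hJf]
      · rw [Category.assoc, pullback.condition, ← Category.assoc, hjs, Category.assoc, hJs, Category.id_comp,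
          Category.comp_id]
    obtain ⟨v, rfl⟩ := (coprod.desc (jW 0) (jW 1)).homeomorph.surjective π'
    apply hπ
    have hv : v ∈ Set.range (coprod.inl : (W : Scheme.{u}) ⟶ W ⨿ W) ⊔
        Set.range (coprod.inr : (W : Scheme.{u}) ⟶ W ⨿ W) := by
      rw [(isCompl_range_inl_inr (W : Scheme.{u}) (W : Scheme.{u})).sup_eq_top]
      trivial
    rw [← h1]
    rcases hv with ⟨a, rfl⟩ | ⟨a, rfl⟩
    · left
      refine ⟨W.ι a, ?_⟩
      rw [← Scheme.Hom.comp_apply, ← hj 0, Scheme.Hom.comp_apply]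
      congr 1
      change _ = (coprod.desc (jW 0) (jW 1)) ((coprod.inl : (W : Scheme.{u}) ⟶ W ⨿ W) a)
      rw [← Scheme.Hom.comp_apply, coprod.inl_desc]
    · right
      refine ⟨W.ι a, ?_⟩
      rw [← Scheme.Hom.comp_apply, ← hj 1, Scheme.Hom.comp_apply]
      congr 1
      change _ = (coprod.desc (jW 0) (jW 1)) ((coprod.inr : (W : Scheme.{u}) ⟶ W ⨿ W) a)
      rw [← Scheme.Hom.comp_apply, coprod.inr_desc]
  obtain ⟨π, h1, h2⟩ := Scheme.Pullback.exists_preimage_pullback ζ γ h
  have hπ : π ∈ Set.range (J 0) ∪ Set.range (J 1) := by rw [key]; trivial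
  have h3 : ∀ i (a : Γ'), J i a = π → z i γ = ζ := by
    intro i a ha
    have h4 : a = γ := by
      rw [← h2, ← ha, ← Scheme.Hom.comp_apply, hJs]
      rfl
    rw [← h1, ← ha, ← Scheme.Hom.comp_apply, hJf, h4]
  rcases hπ with ⟨a, ha⟩ | ⟨a, ha⟩
  · exact ⟨0, h3 0 a ha⟩
  · exact ⟨1, h3 1 a ha⟩

end Desc

section Chow

variable {X S : Scheme.{u}} (f : X ⟶ S) [IsSeparated f] {H : Over S} (Z : HilbD.Obj f 2 H)

/-- Where the two sections are disjoint, the family is the union of their graphs. -/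
theorem pull_eq_graphs {T : Over S} (g : T ⟶ H) (z : Fin 2 → (T.left ⟶ Z.1.subscheme))
    (hz : ∀ i, z i ≫ pi f Z.1 = g.left)
    (hd : ∀ t : T.left, pullback.lift (z 0) (z 1) ((hz 0).trans (hz 1).symm) t ∉
      Set.range (pullback.diagonal (pi f Z.1)))
    (hx : ∀ i, (z i ≫ qq f Z.1) ≫ f = T.hom) :
    TautSh.DisjointSections f 2 T (fun i => z i ≫ qq f Z.1) hx ∧
      HilbD.pull f g Z.1 = TautSh.graphsIdeal f 2 T (fun i => z i ≫ qq f Z.1) hx := by
  obtain ⟨m, hm, hmq⟩ := exists_isPullback_of_pull_eq f g Z.1 _ rfl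
  obtain ⟨hci, hdj, hiso⟩ := isIso_desc (pi f Z.1) Z.2 g.left z hz hd hm
  let j : Fin 2 → (T.left ⟶ (HilbD.pull f g Z.1).subscheme) := fun i =>
    hm.lift (z i) (𝟙 _) (by rw [hz i, Category.id_comp])
  have hjm : ∀ i, j i ≫ m = z i := fun i => hm.lift_fst _ _ _
  have hjp : ∀ i, j i ≫ pi f (HilbD.pull f g Z.1) = 𝟙 _ := fun i => hm.lift_snd _ _ _
  have hjg : ∀ i, j i ≫ (HilbD.pull f g Z.1).subschemeι = gr f T (z i ≫ qq f Z.1) (hx i) := by
    intro i
    apply pullback.hom_ext
    · have h1 := congrArg (fun t => j i ≫ t) hmq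
      simp only [← Category.assoc] at h1
      rw [hjm i] at h1
      rw [pullback.lift_fst, Category.assoc]
      simpa [qq] using h1.symm
    · rw [pullback.lift_snd, Category.assoc]
      exact hjp i
  have hinj : Function.Injective (HilbD.pull f g Z.1).subschemeι :=
    (HilbD.pull f g Z.1).subschemeι.isClosedEmbedding.injective
  have hdg : Disjoint (Set.range (gr f T (z 0 ≫ qq f Z.1) (hx 0))) (Set.range (gr f T (z 1 ≫ qq f Z.1) (hx 1))) := by
    rw [Set.disjoint_left] at hdj ⊢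
    rintro _ ⟨a, rfl⟩ ⟨b, hb⟩
    rw [← hjg, ← hjg, Scheme.Hom.comp_apply, Scheme.Hom.comp_apply] at hb
    exact hdj ⟨a, rfl⟩ ⟨b, hinj hb⟩
  refine ⟨?_, ?_⟩
  · intro a b hab
    fin_cases a <;> fin_cases b
    · exact absurd rfl hab
    · exact (disjoint_range_iff f T _ _ (hx 0) (hx 1)).2 hdg
    · exact (disjoint_range_iff f T _ _ (hx 1) (hx 0)).2 hdg.symm
    · exact absurd rfl hab
  · have e2 : coprod.desc (j 0) (j 1) ≫ (HilbD.pull f g Z.1).subschemeι =
        coprod.desc (gr f T (z 0 ≫ qq f Z.1) (hx 0)) (gr f T (z 1 ≫ qq f Z.1) (hx 1)) := by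
      apply coprod.hom_ext
      · rw [coprod.inl_desc_assoc, hjg, coprod.inl_desc]
      · rw [coprod.inr_desc_assoc, hjg, coprod.inr_desc]
    rw [graphsIdeal_two]
    have : IsIso (coprod.desc (j 0) (j 1)) := hiso
    have e3 := Scheme.Hom.ker_comp_of_isIso (coprod.desc (j 0) (j 1)) (HilbD.pull f g Z.1).subschemeι
    rw [e2, ker_coprodDesc, Scheme.IdealSheafData.ker_subschemeι] at e3
    exact e3.symm

/-- The Hilbert–Chow morphism on an integral cover with two sections. -/
theorem chow_comp {Y : Scheme.{u}} (q : SymProd.fibPow f 2 ⟶ Y) (gY : Y ⟶ S) [IsSeparated gY] (ρ : H.left ⟶ Y)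
    (hρ : TautSh.IsHilbChow f 2 H Z.1 q gY ρ) (hq : q ≫ gY = WidePullback.base _) {Γ' : Scheme.{u}} [IsIntegral Γ']
    (z : Fin 2 → (Γ' ⟶ Z.1.subscheme))
    (h : z 0 ≫ pi f Z.1 = z 1 ≫ pi f Z.1) (hne : z 0 ≠ z 1) (r : Γ' ⟶ S)
    (hx : ∀ i, (z i ≫ qq f Z.1) ≫ f = r) :
    (z 0 ≫ pi f Z.1) ≫ ρ = WidePullback.lift r (fun i : Fin 2 => z i ≫ qq f Z.1) hx ≫ q := by
  have hsepp : IsSeparated (pi f Z.1) := by
    have : IsFinite (pi f Z.1) := Z.2.1.1
    infer_instance
  have hr : (z 0 ≫ pi f Z.1) ≫ H.hom = r := by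
    rw [Category.assoc, ← qq_comp, ← Category.assoc, hx]
  obtain ⟨W, hW, hW'⟩ := exists_open_ne (pi f Z.1) (z 0) (z 1) h hne
  let T : Over S := Over.mk (W.ι ≫ r)
  let g : T ⟶ H := Over.homMk (W.ι ≫ z 0 ≫ pi f Z.1) (by
    change (W.ι ≫ z 0 ≫ pi f Z.1) ≫ H.hom = W.ι ≫ r
    rw [← hr, Category.assoc])
  have hz : ∀ i, (W.ι ≫ z i) ≫ pi f Z.1 = g.left := by
    intro i
    fin_cases i
    · exact Category.assoc _ _ _
    · refine (Category.assoc _ _ _).trans ?_
      exact congrArg (fun t => W.ι ≫ t) h.symm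
  have hx' : ∀ i, ((W.ι ≫ z i) ≫ qq f Z.1) ≫ f = T.hom := by
    intro i
    change ((W.ι ≫ z i) ≫ qq f Z.1) ≫ f = W.ι ≫ r
    rw [← hx i]
    simp only [Category.assoc]
  obtain ⟨h1, h2⟩ := pull_eq_graphs f Z g (fun i => W.ι ≫ z i) hz (by
    intro t
    have h3 := (hW' t.1).1 t.2
    intro h4
    apply h3
    obtain ⟨y, hy⟩ := h4
    refine ⟨y, hy.trans ?_⟩
    have h5 : pullback.lift (W.ι ≫ z 0) (W.ι ≫ z 1) ((hz 0).trans (hz 1).symm) = W.ι ≫ pullback.lift (z 0) (z 1) h := by
      apply pullback.hom_ext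
      · rw [pullback.lift_fst, Category.assoc, pullback.lift_fst]
      · rw [pullback.lift_snd, Category.assoc, pullback.lift_snd]
    have h6 := congrArg (fun φ => φ t) h5
    refine h6.trans ?_
    rw [Scheme.Hom.comp_apply]
    rfl) hx'
  have h3 := hρ.2 T (fun i => (W.ι ≫ z i) ≫ qq f Z.1) hx' h1 g h2
  have hdom : IsDominant W.ι := by
    refine ⟨?_⟩
    rw [DenseRange, Scheme.Opens.range_ι]
    exact W.isOpen.dense ⟨hW.some.1, hW.some.2⟩
  refine ext_of_isDominant_of_isSeparated gY ?_ W.ι ?_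
  · rw [Category.assoc, hρ.1, hr, Category.assoc, hq, WidePullback.lift_base]
  · refine Eq.trans ?_ (h3.trans ?_)
    · exact (Category.assoc _ _ _).symm
    · rw [← Category.assoc]
      congr 1
      unfold TautSh.tupleMap
      apply WidePullback.hom_ext
      · intro i
        rw [WidePullback.lift_π]
        refine (Category.assoc _ _ _).trans ?_
        refine Eq.trans ?_ (Category.assoc _ _ _).symm
        rw [WidePullback.lift_π]
      · rw [WidePullback.lift_base, Category.assoc, WidePullback.lift_base]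
        rfl

end Chow

end K805.Taut
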